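import Cfsg.Agent.Base
import Cfsg.Agent.Even.Core
import Cfsg.Agent.S1262
import Cfsg.Agent.S1265
import Cfsg.Agent.S1268

/-! Criteria for "every involution centralizer has trivial core and no component". -/

set_option autoImplicit false

namespace CL.Even

open Cfsg

/-- `O(X) = 1` and `X` has no component. -/
def NoCoreNoComp (X : Type*) [Group X] : Prop :=
  pPrimeCore 2 X = ⊥ ∧ ∀ K : Subgroup X, ¬ IsComponent K

/-- Every involution centralizer has trivial core and no component. -/
def InvCharTwo (G : Type*) [Group G] : Prop :=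
  ∀ x : G, orderOf x = 2 → NoCoreNoComp (Subgroup.centralizer ({x} : Set G))

section
variable {G H : Type*} [Group G] [Group H]

theorem NoCoreNoComp.of_injective [Finite G] [Finite H] (h : NoCoreNoComp H) (f : G →* H)
    (hf : Function.Injective f) (hn : f.range.IsSubnormal) : NoCoreNoComp G := by
  have hsub : ∀ K : Subgroup G, K.IsSubnormal → (K.map f).IsSubnormal := by
    intro K hK
    have h1 := hK.map (f := f.rangeRestrict) f.rangeRestrict_surjective
    have h2 := Subgroup.IsSubnormal.trans' h1 hn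
    rwa [Subgroup.map_map] at h2
  refine ⟨?_, ?_⟩
  · have := le_pPrimeCore_of_isSubnormal (p := 2)
      (hsub (pPrimeCore 2 G) (Subgroup.Normal.isSubnormal inferInstance)) (by
        rw [Subgroup.card_map_of_injective hf]; exact pPrimeCore_coprime' 2)
    rwa [h.1, le_bot_iff, Subgroup.map_eq_bot_iff_of_injective _ hf] at this
  · intro K hK
    exact h.2 (K.map f) ⟨hsub K hK.1, (isQuasisimple_congr (K.equivMapOfInjective f hf)).mp hK.2⟩

theorem exists_odd_orderOf_of_not_isPGroup [Finite G] (h : ¬ IsPGroup 2 G) :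
    ∃ y : G, y ≠ 1 ∧ Odd (orderOf y) := by
  by_contra hc
  push Not at hc
  apply h
  rw [IsPGroup.iff_card]
  refine ⟨_, Nat.eq_prime_pow_of_unique_prime_dvd Nat.card_pos.ne' ?_⟩
  intro q hq hqd
  have := Fact.mk hq
  obtain ⟨y, hy⟩ := exists_prime_orderOf_dvd_card' q hqd
  by_contra hne
  refine hc y ?_ (hy ▸ hq.odd_of_ne_two hne)
  rintro rfl
  rw [orderOf_one] at hy
  exact hq.ne_one hy.symm

theorem IsQuasisimple_not_isPGroup [Finite G] {p : ℕ} (hp : p.Prime) (h : IsQuasisimple G) :
    ¬ IsPGroup p G := by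
  intro hP
  have := Fact.mk hp
  have h1 := h.1
  have h2 := h.2
  have : Nontrivial G := (QuotientGroup.mk'_surjective (Subgroup.center G)).nontrivial
  exact Group.IsPerfect.not_isNilpotent G hP.isNilpotent

theorem noCoreNoComp_of_normal [Finite G] (V : Subgroup G) [V.Normal] (hV : IsPGroup 2 V)
    (h : ∀ y ∈ Subgroup.centralizer (V : Set G), Odd (orderOf y) → y = 1) : NoCoreNoComp G := by
  refine ⟨?_, ?_⟩
  · rw [eq_bot_iff]
    intro y hy
    have hodd : Odd (orderOf y) := by
      have h1 : (orderOf y).Coprime 2 :=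
        Nat.Coprime.coprime_dvd_left (Subgroup.orderOf_dvd_natCard _ hy) (pPrimeCore_coprime' 2)
      exact Nat.coprime_two_right.mp h1
    refine h y ?_ hodd
    have hdis : Disjoint V (pPrimeCore 2 G) := by
      obtain ⟨n, hn⟩ := IsPGroup.iff_card.mp hV
      apply Subgroup.disjoint_of_coprime_natCard
      rw [hn]
      exact Nat.Coprime.pow_left _ (pPrimeCore_coprime' 2).symm
    intro v hv
    exact (Subgroup.commute_of_normal_of_disjoint V _ inferInstance inferInstance hdis v y hv hy)
  · intro K hK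
    have hs : Group.IsSolvable V := by
      have := hV.isNilpotent
      infer_instance
    have hc := Cfsg.Agent.S1262.result K V hK hs Subgroup.le_normalizer_of_normal
    rw [Subgroup.commutator_eq_bot_iff_le_centralizer] at hc
    obtain ⟨y, hy1, hy⟩ :=
      exists_odd_orderOf_of_not_isPGroup (IsQuasisimple_not_isPGroup Nat.prime_two hK.2)
    exact hy1 (Subtype.ext (h y (hc y.2) (by rwa [Subgroup.orderOf_coe])))

theorem NoCoreNoComp.fstar_eq [Finite G] (h : NoCoreNoComp G) :
    generalizedFittingSubgroup G = pCore 2 G := by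
  have hL : layer G = ⊥ := by
    rw [eq_bot_iff]
    exact sSup_le fun K hK => (h.2 K hK).elim
  unfold generalizedFittingSubgroup
  rw [hL, bot_sup_eq]
  exact le_antisymm (fitting_le_pCore_of_pPrimeCore_eq_bot Nat.prime_two h.1)
    (pCore_le_fitting Nat.prime_two)

theorem noCoreNoComp_of_fstar_eq [Finite G] (h : generalizedFittingSubgroup G = pCore 2 G) :
    NoCoreNoComp G := by
  refine noCoreNoComp_of_normal (pCore 2 G) (pCore_isPGroup' 2) ?_
  intro y hy hodd
  have h1 : y ∈ pCore 2 G := by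
    rw [← h] at hy ⊢
    exact Cfsg.Agent.S1265.result hy
  obtain ⟨k, hk⟩ := IsPGroup.iff_orderOf.mp (pCore_isPGroup' (G := G) 2) ⟨y, h1⟩
  rw [← Subgroup.orderOf_coe] at hk
  simp only at hk
  rw [← orderOf_eq_one_iff]
  rw [hk] at hodd ⊢
  rcases k with _ | k
  · rfl
  · exact absurd hodd (by simp [Nat.odd_pow_iff])

/-- If `X` has trivial core and no component, so does the centralizer of an involution. -/
theorem NoCoreNoComp.centralizer [Finite G] (h : NoCoreNoComp G) {x : G} (hx : orderOf x = 2) :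
    NoCoreNoComp (Subgroup.centralizer ({x} : Set G)) := by
  have hP : IsPGroup 2 (Subgroup.zpowers x) :=
    IsPGroup.of_card (n := 1) (by rw [Nat.card_zpowers, hx, pow_one])
  have h1 := noCoreNoComp_of_fstar_eq (Cfsg.Agent.S1268.result 2 h.fstar_eq _ hP)
  have hle : Subgroup.centralizer ({x} : Set G) ≤
      Subgroup.normalizer ((Subgroup.zpowers x : Subgroup G) : Set G) := by
    rw [← Subgroup.centralizer_closure, ← Subgroup.zpowers_eq_closure]
    exact Subgroup.centralizer_le_normalizer _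
  refine h1.of_injective (Subgroup.inclusion hle) (Subgroup.inclusion_injective hle) ?_
  rw [Subgroup.inclusion_range]
  apply Subgroup.Normal.isSubnormal
  rw [← Subgroup.centralizer_closure, ← Subgroup.zpowers_eq_closure]
  infer_instance

/-- The basic criterion: `C(x)` normalizes a 2-subgroup `V` whose centralizer in `N(V)` has no
nontrivial element of odd order. -/
theorem noCoreNoComp_centralizer_of_crit [Finite G] {x : G} (hx : orderOf x = 2) (V : Subgroup G)
    (hV : IsPGroup 2 V)
    (hC : Subgroup.centralizer ({x} : Set G) ≤ Subgroup.normalizer (V : Set G))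
    (h : ∀ y ∈ Subgroup.centralizer (V : Set G), Odd (orderOf y) → y = 1) :
    NoCoreNoComp (Subgroup.centralizer ({x} : Set G)) := by
  set P := Subgroup.normalizer (V : Set G)
  have hP : NoCoreNoComp P := by
    refine noCoreNoComp_of_normal (V.subgroupOf P) hV.comap_subtype ?_
    intro y hy hodd
    refine Subtype.ext (h y ?_ (by rwa [Subgroup.orderOf_coe]))
    intro v hv
    exact congrArg Subtype.val (hy ⟨v, Subgroup.le_normalizer hv⟩ hv)
  have hxP : x ∈ P := hC (Subgroup.mem_centralizer_singleton_iff.mpr rfl)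
  have h1 := hP.centralizer (x := ⟨x, hxP⟩) (by rw [← hx, ← Subgroup.orderOf_coe])
  let f : Subgroup.centralizer ({x} : Set G) →* Subgroup.centralizer ({⟨x, hxP⟩} : Set P) :=
    (Subgroup.inclusion hC).codRestrict _ (fun c => by
      rw [Subgroup.mem_centralizer_singleton_iff]
      exact Subtype.ext (Subgroup.mem_centralizer_singleton_iff.mp c.2))
  refine h1.of_injective f ?_ ?_
  · intro a b hab
    exact Subtype.ext (congrArg Subtype.val (congrArg Subtype.val hab) :)
  · have : f.range = ⊤ := by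
      rw [eq_top_iff]
      rintro ⟨⟨c, hc⟩, hc'⟩ -
      refine ⟨⟨c, ?_⟩, rfl⟩
      rw [Subgroup.mem_centralizer_singleton_iff] at hc' ⊢
      exact congrArg Subtype.val hc'
    rw [this]; exact Subgroup.IsSubnormal.top

theorem InvCharTwo.of_injective [Finite G] [Finite H] (h : InvCharTwo H) (f : G →* H)
    (hf : Function.Injective f) (hn : f.range.Normal) : InvCharTwo G := by
  intro x hx
  have h1 := h (f x) (by rw [orderOf_injective f hf, hx])
  let g : Subgroup.centralizer ({x} : Set G) →* Subgroup.centralizer ({f x} : Set H) :=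
    (f.comp (Subgroup.subtype _)).codRestrict _ (fun c => by
      rw [Subgroup.mem_centralizer_singleton_iff]
      simp only [MonoidHom.comp_apply, Subgroup.coe_subtype, ← map_mul]
      rw [Subgroup.mem_centralizer_singleton_iff.mp c.2])
  refine h1.of_injective g ?_ ?_
  · intro a b hab
    exact Subtype.ext (hf (congrArg Subtype.val hab))
  · have : g.range = f.range.subgroupOf _ := by
      ext ⟨c, hc⟩
      rw [Subgroup.mem_subgroupOf]
      constructor
      · rintro ⟨d, hd⟩
        exact ⟨d, congrArg Subtype.val hd⟩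
      · rintro ⟨d, rfl⟩
        refine ⟨⟨d, ?_⟩, rfl⟩
        rw [Subgroup.mem_centralizer_singleton_iff] at hc ⊢
        apply hf
        simpa using hc
    rw [this]
    exact Subgroup.Normal.isSubnormal inferInstance

theorem InvCharTwo.of_mulEquiv [Finite G] (e : G ≃* H) (h : InvCharTwo H) : InvCharTwo G := by
  have : Finite H := Finite.of_equiv G e.toEquiv
  refine h.of_injective e.toMonoidHom e.injective ?_
  rw [MonoidHom.range_eq_top.mpr e.surjective]
  infer_instance

theorem InvCharTwo.normal [Finite G] (h : InvCharTwo G) (N : Subgroup G) [hN : N.Normal] :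
    InvCharTwo N :=
  h.of_injective N.subtype N.subtype_injective (by rwa [N.range_subtype])

/-- The statement of S1787 from `InvCharTwo`. -/
theorem InvCharTwo.conclusion [Finite G] (h : InvCharTwo G) :
    (∀ x : G, orderOf x = 2 →
      ∀ K : Subgroup (↥(Subgroup.centralizer ({x} : Set G)) ⧸
        pPrimeCore 2 ↥(Subgroup.centralizer ({x} : Set G))), ¬ IsComponent K) ∧
    (∀ x : G, orderOf x = 2 → centralizerPPrimeCore 2 x = ⊥) := by
  refine ⟨fun x hx => ?_, fun x hx => ?_⟩
  · have h1 := h x hx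
    let e := (QuotientGroup.quotientMulEquivOfEq h1.1).trans QuotientGroup.quotientBot
    refine (h1.of_injective e.toMonoidHom e.injective ?_).2
    rw [MonoidHom.range_eq_top.mpr e.surjective]
    exact Subgroup.IsSubnormal.top
  · unfold centralizerPPrimeCore
    rw [(h x hx).1, Subgroup.map_bot]

/-- The criterion, relative to the centre. -/
def CritModCenter (G : Type*) [Group G] : Prop :=
  ∀ x : G, orderOf x = 2 → ∃ V : Subgroup G, IsPGroup 2 V ∧
    Subgroup.centralizer ({x} : Set G) ≤ Subgroup.normalizer (V : Set G) ∧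
    ∀ y ∈ Subgroup.centralizer (V : Set G), Odd (orderOf y) → y ∈ Subgroup.center G

theorem CritModCenter.odd_card_center [Finite G] (h : CritModCenter G)
    (hs : IsSimpleGroup (G ⧸ Subgroup.center G))
    (hc : ¬ IsMulCommutative (G ⧸ Subgroup.center G)) : Odd (Nat.card (Subgroup.center G)) := by
  rw [← Nat.not_even_iff_odd, even_iff_two_dvd]
  intro hd
  obtain ⟨z, hz⟩ := exists_prime_orderOf_dvd_card' 2 hd
  obtain ⟨V, hV, hC, hy⟩ := h z (by rwa [Subgroup.orderOf_coe])
  have hVn : V.Normal := by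
    rw [← Subgroup.normalizer_eq_top_iff, eq_top_iff]
    intro g _
    exact hC (Subgroup.mem_centralizer_singleton_iff.mpr (Subgroup.mem_center_iff.mp z.2 g))
  have hnot : ¬ IsPGroup 2 (G ⧸ Subgroup.center G) := by
    intro hP
    have := hP.isNilpotent
    apply hc
    rcases (inferInstance : (Subgroup.center (G ⧸ Subgroup.center G)).Normal).eq_bot_or_eq_top
      with h1 | h1
    · exact absurd h1 (Group.IsNilpotent.center_ne_bot _)
    · exact ⟨⟨fun a b => (Subgroup.mem_center_iff.mp (h1 ▸ trivial : b ∈ Subgroup.center _) a)⟩⟩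
  apply hnot
  rcases (hVn.map _ (QuotientGroup.mk'_surjective (Subgroup.center G))).eq_bot_or_eq_top
    with h1 | h1
  · by_contra hP
    obtain ⟨y, hy1, hy2⟩ := exists_odd_orderOf_of_not_isPGroup hP
    obtain ⟨g, rfl⟩ := QuotientGroup.mk'_surjective _ y
    obtain ⟨k, m, hm, hkm⟩ := Nat.exists_eq_two_pow_mul_odd (orderOf_pos g).ne'
    have hg : g ^ 2 ^ k ∈ Subgroup.center G := by
      refine hy _ ?_ ?_
      · intro v hv
        have : v ∈ Subgroup.center G := by
          have : QuotientGroup.mk' (Subgroup.center G) v ∈ (⊥ : Subgroup _) := h1 ▸ ⟨v, hv, rfl⟩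
          exact (QuotientGroup.eq_one_iff v).mp this
        exact (Subgroup.mem_center_iff.mp this _).symm
      · rw [orderOf_pow' _ (by positivity), hkm, Nat.gcd_mul_right_left,
          Nat.mul_div_cancel_left _ (by positivity)]
        exact hm
    have h2 : (QuotientGroup.mk' (Subgroup.center G) g) ^ 2 ^ k = 1 := by
      rw [← map_pow]; exact (QuotientGroup.eq_one_iff _).mpr hg
    apply hy1
    rw [← orderOf_eq_one_iff]
    exact Nat.Coprime.eq_one_of_dvd (Nat.Coprime.pow_right k (Nat.coprime_two_right.mpr hy2))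
      (orderOf_dvd_of_pow_eq_one h2)
  · have := hV.map (QuotientGroup.mk' (Subgroup.center G))
    rw [h1] at this
    exact this.of_equiv Subgroup.topEquiv

theorem exists_odd_lift [Finite G] (N : Subgroup G) [N.Normal] (y : G ⧸ N)
    (hy : Odd (orderOf y)) : ∃ g : G, (g : G ⧸ N) = y ∧ Odd (orderOf g) := by
  obtain ⟨g, rfl⟩ := QuotientGroup.mk'_surjective N y
  obtain ⟨k, m, hm, hkm⟩ := Nat.exists_eq_two_pow_mul_odd (orderOf_pos g).ne'
  have hcop : (2 ^ k).Coprime (orderOf (QuotientGroup.mk' N g)) :=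
    Nat.Coprime.pow_left k (Nat.coprime_two_left.mpr hy)
  obtain ⟨j, hj⟩ := exists_pow_eq_self_of_coprime hcop
  refine ⟨(g ^ 2 ^ k) ^ j, ?_, ?_⟩
  · rw [← hj]; simp
  · refine Odd.of_dvd_nat ?_ (orderOf_pow_dvd j)
    rw [orderOf_pow' _ (by positivity), hkm, Nat.gcd_mul_right_left,
      Nat.mul_div_cancel_left _ (by positivity)]
    exact hm

theorem eq_one_of_mem_odd_of_pow_two_pow [Finite G] {Z : Subgroup G} (hZ : Odd (Nat.card Z))
    {z : G} (hz : z ∈ Z) {k : ℕ} (h : z ^ 2 ^ k = 1) : z = 1 := by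
  rw [← orderOf_eq_one_iff]
  refine Nat.Coprime.eq_one_of_dvd (Nat.Coprime.pow_right k ?_) (orderOf_dvd_of_pow_eq_one h)
  exact Nat.coprime_two_right.mpr (hZ.of_dvd_nat (Subgroup.orderOf_dvd_natCard _ hz))

theorem CritModCenter.invCharTwo [Finite G] (h : CritModCenter G)
    (hs : IsSimpleGroup (G ⧸ Subgroup.center G))
    (hc : ¬ IsMulCommutative (G ⧸ Subgroup.center G)) :
    InvCharTwo (G ⧸ Subgroup.center G) := by
  have hZ := h.odd_card_center hs hc
  set Z := Subgroup.center G with hZdef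
  intro xb hxb
  obtain ⟨g, hg⟩ := QuotientGroup.mk'_surjective Z xb
  have hxb2 : xb ^ 2 = 1 := hxb ▸ pow_orderOf_eq_one xb
  have hg2 : g ^ 2 ∈ Z := by
    rw [← QuotientGroup.eq_one_iff]
    rw [← hg] at hxb2; exact hxb2
  set x := g ^ Nat.card Z with hxdef
  have hx2 : x ^ 2 = 1 := by
    rw [hxdef, ← pow_mul, mul_comm, pow_mul]
    exact congrArg Subtype.val (pow_card_eq_one' (x := (⟨g ^ 2, hg2⟩ : Z)))
  have hxx : QuotientGroup.mk' Z x = xb := by
    obtain ⟨j, hj⟩ := hZ
    rw [hxdef, map_pow, hg, hj, pow_succ, pow_mul, hxb2, one_pow, one_mul]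
  have hx : orderOf x = 2 := by
    refine orderOf_eq_prime hx2 ?_
    intro h1
    rw [h1, map_one] at hxx
    rw [← hxx, orderOf_one] at hxb
    norm_num at hxb
  obtain ⟨V, hV, hC, hy⟩ := h x hx
  have hCb : Subgroup.centralizer ({xb} : Set (G ⧸ Z)) ≤
      Subgroup.normalizer ((V.map (QuotientGroup.mk' Z) : Subgroup _) : Set (G ⧸ Z)) := by
    intro cb hcb
    obtain ⟨c, rfl⟩ := QuotientGroup.mk'_surjective Z cb
    refine Subgroup.le_normalizer_map _ ⟨c, hC ?_, rfl⟩
    rw [Subgroup.mem_centralizer_singleton_iff] at hcb ⊢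
    have h1 : c * x * c⁻¹ * x⁻¹ ∈ Z := by
      rw [← QuotientGroup.eq_one_iff]
      change QuotientGroup.mk' Z _ = 1
      rw [map_mul, map_mul, map_mul, map_inv, map_inv, hxx, hcb]
      simp
    have h2 : (c * x * c⁻¹ * x⁻¹) ^ 2 ^ 1 = 1 := by
      have h3 := Subgroup.mem_center_iff.mp h1 x⁻¹
      have h4 : (c * x * c⁻¹) ^ 2 = 1 := by rw [conj_pow, hx2]; simp
      have h5 : x⁻¹ ^ 2 = 1 := by rw [inv_pow, hx2, inv_one]
      have h6 : Commute (c * x * c⁻¹) x⁻¹ := by
        have : x⁻¹ * (c * x * c⁻¹) * x⁻¹ = (c * x * c⁻¹) * x⁻¹ * x⁻¹ := by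
          rw [← h3]; simp only [mul_assoc]
        exact (mul_right_cancel this).symm
      rw [pow_one, h6.mul_pow, h4, h5, one_mul]
    have h3 := eq_one_of_mem_odd_of_pow_two_pow hZ h1 h2
    rw [mul_inv_eq_one, mul_inv_eq_iff_eq_mul] at h3
    exact h3
  refine noCoreNoComp_centralizer_of_crit hxb _ (hV.map _) hCb ?_
  intro yb hyb hodd
  obtain ⟨y, rfl, hyo⟩ := exists_odd_lift Z yb hodd
  rw [QuotientGroup.eq_one_iff]
  refine hy y ?_ hyo
  intro v hv
  have h1 : y * v * y⁻¹ * v⁻¹ ∈ Z := by
    rw [← QuotientGroup.eq_one_iff]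
    have := hyb (QuotientGroup.mk' Z v) ⟨v, hv, rfl⟩
    simp only [QuotientGroup.mk_mul, QuotientGroup.mk_inv]
    rw [QuotientGroup.mk'_apply] at this
    rw [← this]; simp
  obtain ⟨k, hk⟩ := hV ⟨v, hv⟩
  have hk' : v ^ 2 ^ k = 1 := congrArg Subtype.val hk
  have h2 : (y * v * y⁻¹ * v⁻¹) ^ 2 ^ k = 1 := by
    have h3 := Subgroup.mem_center_iff.mp h1 v⁻¹
    have h4 : (y * v * y⁻¹) ^ 2 ^ k = 1 := by rw [conj_pow, hk']; simp
    have h5 : v⁻¹ ^ 2 ^ k = 1 := by rw [inv_pow, hk', inv_one]
    have h6 : Commute (y * v * y⁻¹) v⁻¹ := by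
      have : v⁻¹ * (y * v * y⁻¹) * v⁻¹ = (y * v * y⁻¹) * v⁻¹ * v⁻¹ := by
        rw [← h3]; simp only [mul_assoc]
      exact (mul_right_cancel this).symm
    rw [h6.mul_pow, h4, h5, one_mul]
  have h3 := eq_one_of_mem_odd_of_pow_two_pow hZ h1 h2
  rw [mul_inv_eq_one, mul_inv_eq_iff_eq_mul] at h3
  exact h3.symm

/-- If the centre has odd order, 2-rank passes to the central quotient. -/
theorem pRankAtLeast_quotient_center [Finite G] {k : ℕ} (hZ : Odd (Nat.card (Subgroup.center G)))
    (h : PRankAtLeast 2 k G) : PRankAtLeast 2 k (G ⧸ Subgroup.center G) := by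
  obtain ⟨A, hA, h2, hc⟩ := h
  refine pRankAtLeast_of_injective (G := A)
    ((QuotientGroup.mk' (Subgroup.center G)).comp A.subtype) ?_
    ⟨⊤, inferInstance, fun a _ => Subtype.ext (h2 a a.2), by simpa using hc⟩
  rw [injective_iff_map_eq_one]
  intro a ha
  have : (a : G) ∈ Subgroup.center G := (QuotientGroup.eq_one_iff _).mp ha
  exact Subtype.ext (eq_one_of_mem_odd_of_pow_two_pow hZ this (k := 1) (by simpa using h2 a a.2))

end

end CL.Even
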