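import Cfsg.Agent.Base
import Cfsg.Agent.Even.CharTwo
import Cfsg.Agent.Even.Rank

/-! Unipotent radicals of flag stabilizers in characteristic two, and the criterion
`CritModCenter` for linear groups. -/

set_option autoImplicit false

namespace CL.Even

open Cfsg

section
variable {G F V : Type*} [Group G] [Field F] [AddCommGroup V] [Module F V]

/-- `f` acts as the scalar `c` on `V / W'`, `W' / W` and `W`. -/
def ActsAs (f : V →ₗ[F] V) (c : F) (W W' : Submodule F V) : Prop :=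
  (∀ v, f v - c • v ∈ W') ∧ (∀ v ∈ W', f v - c • v ∈ W) ∧ ∀ v ∈ W, f v = c • v

theorem two_smul_eq_zero [CharP F 2] (v : V) : v + v = 0 := by
  rw [← two_smul F v, CharTwo.two_eq_zero, zero_smul]

theorem ActsAs.pow_four [CharP F 2] {f : V →ₗ[F] V} {c : F} {W W' : Submodule F V}
    (h : ActsAs f c W W') (v : V) : f (f (f (f v))) = c ^ 4 • v := by
  have h2 : (2 : F) = 0 := CharTwo.two_eq_zero
  have sq : ∀ u, f (f u) = c ^ 2 • u + (f (f u - c • u) - c • (f u - c • u)) := by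
    intro u
    rw [map_sub, map_smul]
    have : c • f u + c • f u = 0 := two_smul_eq_zero (F := F) _
    have h3 : c ^ 2 • u + c ^ 2 • u = 0 := two_smul_eq_zero (F := F) _
    linear_combination (norm := module) this - h3
  set w := f (f v - c • v) - c • (f v - c • v) with hw
  have hwW : w ∈ W := h.2.1 _ (h.1 v)
  have h4 : f (f w) = c ^ 2 • w := by
    rw [h.2.2 w hwW, map_smul, h.2.2 w hwW, smul_smul, pow_two]
  have h5 : c ^ 2 • w + c ^ 2 • w = 0 := two_smul_eq_zero (F := F) _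
  rw [sq v, map_add, map_add, map_smul, map_smul, sq v, ← hw, h4]
  linear_combination (norm := module) h5

variable (ρ : G →* (V ≃ₗ[F] V))

/-- The elements acting trivially on `V / W'`, `W' / W` and `W`. -/
def flagU (W W' : Submodule F V) : Subgroup G where
  carrier := {g | ActsAs (ρ g : V →ₗ[F] V) 1 W W'}
  one_mem' := by simp [ActsAs]
  mul_mem' := by
    rintro g h ⟨g1, g2, g3⟩ ⟨h1, h2, h3⟩
    simp only [one_smul, LinearEquiv.coe_coe] at g1 g2 g3 h1 h2 h3
    refine ⟨fun v => ?_, fun v hv => ?_, fun v hv => ?_⟩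
    · have := W'.add_mem (g1 (ρ h v)) (h1 v)
      simpa using this
    · have h4 : ρ h v ∈ W' := by simpa using W'.add_mem (h1 v) hv
      simpa using W.add_mem (g2 _ h4) (h2 v hv)
    · simp [h3 v hv, g3 v hv]
  inv_mem' := by
    rintro g ⟨g1, g2, g3⟩
    simp only [one_smul, LinearEquiv.coe_coe] at g1 g2 g3
    have e : ∀ v, ρ g (ρ g⁻¹ v) = v := fun v => by simp
    refine ⟨fun v => ?_, fun v hv => ?_, fun v hv => ?_⟩
    · have := W'.neg_mem (g1 (ρ g⁻¹ v))
      rw [e] at this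
      simpa using this
    · have h4 : ρ g⁻¹ v ∈ W' := by
        have := W'.sub_mem hv (g1 (ρ g⁻¹ v))
        rw [e] at this
        simpa using this
      have := W.neg_mem (g2 _ h4)
      rw [e] at this
      simpa using this
    · apply (ρ g).injective
      simp only [LinearEquiv.coe_coe, one_smul]
      rw [e, g3 v hv]

variable {ρ}

theorem mem_flagU {W W' : Submodule F V} {g : G} : g ∈ flagU ρ W W' ↔
    (∀ v, ρ g v - v ∈ W') ∧ (∀ v ∈ W', ρ g v - v ∈ W) ∧ ∀ v ∈ W, ρ g v = v := by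
  change ActsAs _ _ _ _ ↔ _
  simp [ActsAs]

theorem isPGroup_flagU [CharP F 2] (hρ : Function.Injective ρ) (W W' : Submodule F V) :
    IsPGroup 2 (flagU ρ W W') := by
  rintro ⟨g, hg⟩
  refine ⟨2, Subtype.ext (hρ ?_)⟩
  ext v
  have := ActsAs.pow_four hg v
  simpa [pow_succ] using this

theorem conj_mem_flagU {W W' : Submodule F V} {c g : G} (h1 : ∀ v ∈ W, ρ c v ∈ W)
    (h2 : ∀ v ∈ W', ρ c v ∈ W') (h1' : ∀ v ∈ W, ρ c⁻¹ v ∈ W) (h2' : ∀ v ∈ W', ρ c⁻¹ v ∈ W')
    (hg : g ∈ flagU ρ W W') : c * g * c⁻¹ ∈ flagU ρ W W' := by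
  rw [mem_flagU] at hg ⊢
  obtain ⟨g1, g2, g3⟩ := hg
  have e : ∀ v, ρ c (ρ c⁻¹ v) = v := fun v => by simp
  have e' : ∀ v, ρ (c * g * c⁻¹) v = ρ c (ρ g (ρ c⁻¹ v)) := fun v => by simp
  refine ⟨fun v => ?_, fun v hv => ?_, fun v hv => ?_⟩
  · have := h2 _ (g1 (ρ c⁻¹ v))
    rwa [map_sub, e, ← e'] at this
  · have := h1 _ (g2 _ (h2' v hv))
    rwa [map_sub, e, ← e'] at this
  · rw [e', g3 _ (h1' v hv), e]

theorem mem_center_of_odd_of_pow_two_pow {y : G} (hy : Odd (orderOf y)) {k : ℕ}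
    (h : y ^ 2 ^ k ∈ Subgroup.center G) : y ∈ Subgroup.center G := by
  obtain ⟨j, hj⟩ := exists_pow_eq_self_of_coprime
    (Nat.Coprime.pow_left k (Nat.coprime_two_left.mpr hy))
  rw [← hj]
  exact Subgroup.pow_mem _ h j

/-- The criterion for linear groups in characteristic two. -/
theorem crit_of_flags [CharP F 2] (hρ : Function.Injective ρ)
    (h : ∀ x : G, orderOf x = 2 → ∃ W W' : Submodule F V,
      (∀ c : G, c * x = x * c → (∀ v ∈ W, ρ c v ∈ W) ∧ ∀ v ∈ W', ρ c v ∈ W') ∧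
      ∀ y : G, (∀ g ∈ flagU ρ W W', g * y = y * g) → ∃ c : F, ActsAs (ρ y : V →ₗ[F] V) c W W') :
    CritModCenter G := by
  intro x hx
  obtain ⟨W, W', h1, h2⟩ := h x hx
  refine ⟨flagU ρ W W', isPGroup_flagU hρ W W', ?_, ?_⟩
  · intro c hc
    rw [Subgroup.mem_centralizer_singleton_iff] at hc
    have hc' : c⁻¹ * x = x * c⁻¹ := (Commute.inv_left hc : Commute c⁻¹ x)
    rw [Subgroup.mem_normalizer_iff]
    intro g
    refine ⟨fun hg => conj_mem_flagU (h1 c hc).1 (h1 c hc).2 (h1 _ hc').1 (h1 _ hc').2 hg, ?_⟩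
    intro hg
    have := conj_mem_flagU (c := c⁻¹) (h1 _ hc').1 (h1 _ hc').2 (by simpa using (h1 c hc).1)
      (by simpa using (h1 c hc).2) hg
    simpa [mul_assoc] using this
  · intro y hy hodd
    obtain ⟨c, hc⟩ := h2 y (fun g hg => hy g hg)
    refine mem_center_of_odd_of_pow_two_pow hodd (k := 2) ?_
    have h4 : ∀ v, ρ (y ^ 2 ^ 2) v = c ^ 4 • v := fun v => by
      simpa [pow_succ] using hc.pow_four v
    rw [Subgroup.mem_center_iff]
    intro g
    apply hρ
    ext v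
    rw [map_mul, map_mul, LinearEquiv.mul_apply, LinearEquiv.mul_apply, h4, h4, map_smul]

/-- A linear map all of whose vectors in `W` are eigenvectors is a scalar on `W`. -/
theorem exists_scalar_on {f : V →ₗ[F] V} {W : Submodule F V}
    (h : ∀ w ∈ W, ∃ a : F, f w = a • w) : ∃ c : F, ∀ w ∈ W, f w = c • w := by
  by_cases hW : ∃ w ∈ W, w ≠ 0
  · obtain ⟨w, hw, hw0⟩ := hW
    obtain ⟨c, hc⟩ := h w hw
    refine ⟨c, fun u hu => ?_⟩
    obtain ⟨a, ha⟩ := h u hu
    obtain ⟨b, hb⟩ := h (w + u) (W.add_mem hw hu)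
    by_cases hab : a = b
    · rw [map_add, hc, ha, hab, smul_add, add_left_inj] at hb
      rw [ha, hab, smul_left_injective F hw0 hb]
    · have h1 : u = ((a - b)⁻¹ * (b - c)) • w := by
        rw [map_add, hc, ha] at hb
        have h2 : (a - b) • u = (b - c) • w := by
          linear_combination (norm := module) hb
        rw [mul_smul, ← h2, smul_smul, inv_mul_cancel₀ (sub_ne_zero.mpr hab), one_smul]
      rw [h1, map_smul, hc, smul_comm]
  · push Not at hW
    exact ⟨0, fun w hw => by simp [hW w hw]⟩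

/-- The scalar action from enough transvections and enough further elements. -/
theorem actsAs_of_transvections {W W' : Submodule F V} {y : G}
    (hy : ∀ g ∈ flagU ρ W W', g * y = y * g)
    (T : Set ((V →ₗ[F] F) × V))
    (hT : ∀ p ∈ T, p.2 ∈ W ∧ p.2 ≠ 0 ∧ ∃ g ∈ flagU ρ W W', ∀ v, ρ g v = v + p.1 v • p.2)
    (hT1 : ∀ w ∈ W, w ≠ 0 → ∃ φ, φ ≠ 0 ∧ (φ, w) ∈ T)
    (hT2 : ∀ v, (∀ p ∈ T, p.1 v = 0) → v ∈ W')
    (hU : ∀ u ∈ W', ∃ g ∈ flagU ρ W W', ∃ v, ρ g v - v - u ∈ W) :
    ∃ c : F, ActsAs (ρ y : V →ₗ[F] V) c W W' := by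
  have comm : ∀ g ∈ flagU ρ W W', ∀ v, ρ g (ρ y v) = ρ y (ρ g v) := by
    intro g hg v
    rw [← LinearEquiv.mul_apply, ← map_mul, hy g hg, map_mul, LinearEquiv.mul_apply]
  have key : ∀ p ∈ T, ∀ v, p.1 (ρ y v) • p.2 = p.1 v • ρ y p.2 := by
    intro p hp v
    obtain ⟨-, -, g, hg, hg'⟩ := hT p hp
    have := comm g hg v
    rwa [hg', hg', map_add, map_smul, add_right_inj] at this
  obtain ⟨c, hc⟩ : ∃ c : F, ∀ w ∈ W, (ρ y : V →ₗ[F] V) w = c • w := by
    apply exists_scalar_on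
    intro w hw
    by_cases hw0 : w = 0
    · exact ⟨0, by simp [hw0]⟩
    obtain ⟨φ, hφ, hp⟩ := hT1 w hw hw0
    obtain ⟨v, hv⟩ : ∃ v, φ v ≠ 0 := by
      by_contra hcon
      push Not at hcon
      exact hφ (LinearMap.ext hcon)
    refine ⟨(φ v)⁻¹ * φ (ρ y v), ?_⟩
    have := key _ hp v
    simp only at this
    rw [mul_smul, this, smul_smul, inv_mul_cancel₀ hv, one_smul]
    rfl
  simp only [LinearEquiv.coe_coe] at hc
  have h1 : ∀ v, ρ y v - c • v ∈ W' := by
    intro v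
    apply hT2
    intro p hp
    obtain ⟨hpW, hp0, -⟩ := hT p hp
    have := key p hp v
    rw [hc _ hpW, smul_smul] at this
    rw [map_sub, map_smul, smul_left_injective F hp0 this, smul_eq_mul, mul_comm, sub_self]
  refine ⟨c, h1, ?_, hc⟩
  intro u hu
  obtain ⟨g, hg, v, hv⟩ := hU u hu
  have h2 := comm g hg v
  have h3 := (mem_flagU.mp hg).2.1 _ (h1 v)
  have h4 := hc _ hv
  have : ρ y u - c • u = ρ g (ρ y v - c • v) - (ρ y v - c • v) := by
    simp only [map_sub, map_smul] at h4 ⊢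
    rw [h2]
    linear_combination (norm := module) - h4
  simp only [LinearEquiv.coe_coe]
  rw [this]
  exact h3

/-- The range of `x - 1`. -/
def resid (f : V ≃ₗ[F] V) : Submodule F V := LinearMap.range ((f : V →ₗ[F] V) - LinearMap.id)

theorem mem_resid {f : V ≃ₗ[F] V} {w : V} : w ∈ resid f ↔ ∃ v, f v - v = w := by
  simp [resid]

theorem resid_ne_bot (hρ : Function.Injective ρ) {x : G} (hx : x ≠ 1) : resid (ρ x) ≠ ⊥ := by
  intro h
  apply hx
  apply hρ
  ext v
  have : ρ x v - v ∈ resid (ρ x) := mem_resid.mpr ⟨v, rfl⟩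
  rw [h, Submodule.mem_bot, sub_eq_zero] at this
  simpa using this

theorem map_mem_resid {c x : G} (h : c * x = x * c) {w : V} (hw : w ∈ resid (ρ x)) :
    ρ c w ∈ resid (ρ x) := by
  obtain ⟨v, rfl⟩ := mem_resid.mp hw
  refine mem_resid.mpr ⟨ρ c v, ?_⟩
  rw [map_sub, ← LinearEquiv.mul_apply, ← map_mul, ← h, map_mul, LinearEquiv.mul_apply]

theorem apply_apply_of_orderOf {x : G} (hx : orderOf x = 2) (v : V) : ρ x (ρ x v) = v := by
  rw [← LinearEquiv.mul_apply, ← map_mul, ← pow_two, ← hx, pow_orderOf_eq_one, map_one]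
  rfl

theorem apply_resid [CharP F 2] {x : G} (hx : orderOf x = 2) {w : V} (hw : w ∈ resid (ρ x)) :
    ρ x w = w := by
  obtain ⟨v, rfl⟩ := mem_resid.mp hw
  rw [map_sub, apply_apply_of_orderOf hx]
  have h1 : v + v = 0 := two_smul_eq_zero (F := F) _
  have h2 : ρ x v + ρ x v = 0 := two_smul_eq_zero (F := F) _
  linear_combination (norm := module) h1 - h2

end

section rank
variable {G A : Type*} [Group G] [AddCommGroup A]

/-- An injective additive family indexed by an elementary abelian group of order at least `8`. -/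
theorem pRank_of_family (f : A → G) (hadd : ∀ a b, f (a + b) = f a * f b)
    (hinj : ∀ a, f a = 1 → a = 0) (h2 : ∀ a : A, a + a = 0) (hc : 8 ≤ Nat.card A) :
    PRankAtLeast 2 3 G := by
  let φ : Multiplicative A →* G := MonoidHom.mk' (fun a => f a.toAdd) (fun a b => hadd _ _)
  refine pRankAtLeast_of_hom φ ?_ ?_ ?_
  · rw [injective_iff_map_eq_one]
    intro a ha
    exact hinj a.toAdd ha
  · intro a
    rw [pow_two]
    exact h2 a.toAdd
  · exact hc

end rank

section linear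
variable {G F V : Type*} [Group G] [Field F] [AddCommGroup V] [Module F V] [CharP F 2]
  {ρ : G →* (V ≃ₗ[F] V)}

/-- A linear group containing all transvections. -/
theorem crit_of_transvections (hρ : Function.Injective ρ)
    (ht : ∀ (φ : V →ₗ[F] F) (w : V), φ w = 0 → ∃ g, ∀ v, ρ g v = v + φ v • w) :
    CritModCenter G := by
  refine crit_of_flags hρ fun x hx => ⟨resid (ρ x), resid (ρ x),
    fun c hc => ⟨fun v hv => map_mem_resid hc hv, fun v hv => map_mem_resid hc hv⟩, ?_⟩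
  intro y hy
  have hx1 : x ≠ 1 := by rintro rfl; simp at hx
  set W := resid (ρ x) with hW
  have hne : W ≠ ⊥ := resid_ne_bot hρ hx1
  have hnt : W ≠ ⊤ := by
    intro h
    apply hx1
    apply hρ
    ext v
    simpa using apply_resid (ρ := ρ) hx (hW ▸ h ▸ trivial : v ∈ resid (ρ x))
  refine actsAs_of_transvections hy {p | p.2 ∈ W ∧ p.2 ≠ 0 ∧ ∀ w ∈ W, p.1 w = 0} ?_ ?_ ?_ ?_
  · rintro ⟨φ, w⟩ ⟨h1, h2, h3⟩
    obtain ⟨g, hg⟩ := ht φ w (h3 w h1)
    refine ⟨h1, h2, g, mem_flagU.mpr ⟨fun v => ?_, fun v _ => ?_, fun v hv => ?_⟩, hg⟩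
    · simpa [hg] using W.smul_mem _ h1
    · simpa [hg] using W.smul_mem _ h1
    · simp only at h3
      simp [hg, h3 v hv]
  · intro w hw hw0
    obtain ⟨v, -, hv⟩ := SetLike.exists_of_lt (lt_top_iff_ne_top.mpr hnt)
    obtain ⟨φ, h1, h2⟩ := Submodule.exists_dual_map_eq_bot_of_notMem hv inferInstance
    refine ⟨φ, fun h => h1 (by simp [h]), hw, hw0, fun u hu => ?_⟩
    exact (Submodule.mem_bot F).mp (h2 ▸ Submodule.mem_map_of_mem hu)
  · intro v hv
    by_contra hvW
    obtain ⟨φ, h1, h2⟩ := Submodule.exists_dual_map_eq_bot_of_notMem hvW inferInstance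
    obtain ⟨w, hw, hw0⟩ := Submodule.exists_mem_ne_zero_of_ne_bot hne
    exact h1 (hv (φ, w) ⟨hw, hw0, fun u hu =>
      (Submodule.mem_bot F).mp (h2 ▸ Submodule.mem_map_of_mem hu)⟩)
  · intro u hu
    exact ⟨1, Subgroup.one_mem _, 0, by simpa using hu⟩

theorem pRank_of_transvections [FiniteDimensional F V] (hρ : Function.Injective ρ)
    (ht : ∀ (φ : V →ₗ[F] F) (w : V), φ w = 0 → ∃ g, ∀ v, ρ g v = v + φ v • w)
    (hc : 8 ≤ Nat.card F ^ (Module.finrank F V - 1)) : PRankAtLeast 2 3 G := by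
  have hV : Nontrivial V := by
    by_contra h
    rw [not_nontrivial_iff_subsingleton] at h
    simp [Module.finrank_zero_of_subsingleton] at hc
  obtain ⟨w, hw⟩ := exists_ne (0 : V)
  have hm : ∀ φ : (F ∙ w).dualAnnihilator, (φ : V →ₗ[F] F) w = 0 := fun φ =>
    (Submodule.mem_dualAnnihilator _).mp φ.2 w (Submodule.mem_span_singleton_self w)
  choose f hf using fun φ : (F ∙ w).dualAnnihilator => ht φ w (hm φ)
  refine pRank_of_family f ?_ ?_ (fun a => two_smul_eq_zero (F := F) a) ?_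
  · intro a b
    apply hρ
    ext v
    simp only [map_mul, LinearEquiv.mul_apply, hf, map_add, map_smul, hm, Submodule.coe_add,
      LinearMap.add_apply, smul_eq_mul, mul_zero, add_zero]
    module
  · intro a ha
    ext v
    have := hf a v
    rw [ha] at this
    simpa [hw] using this
  · rw [Module.natCard_eq_pow_finrank (K := F)]
    have h1 := Subspace.finrank_add_finrank_dualAnnihilator_eq (F ∙ w)
    rw [finrank_span_singleton hw] at h1
    rwa [← h1, Nat.add_sub_cancel_left] at hc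

variable {σ : F →+* F}

/-- A group of isometries of a symmetric or Hermitian form containing the transvections and the
Eichler transformations. -/
structure SesqGrp (ρ : G →* (V ≃ₗ[F] V)) (B : V →ₛₗ[σ] V →ₗ[F] F) : Prop where
  inj : Function.Injective ρ
  symm : ∀ x y, σ (B x y) = B y x
  nd : ∀ x, (∀ y, B x y = 0) → x = 0
  iso : ∀ g x y, B (ρ g x) (ρ g y) = B x y
  tv : ∀ p, B p p = 0 → ∀ c, σ c = c → ∃ g, ∀ x, ρ g x = x + (c * B p x) • p
  eich : ∀ p w, B p p = 0 → B p w = 0 →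
    ∃ c g, ∀ x, ρ g x = x + B p x • w - B w x • p - (c * B p x) • p

variable {B : V →ₛₗ[σ] V →ₗ[F] F}

theorem SesqGrp.crit (H : SesqGrp ρ B) : CritModCenter G := by
  have zs : ∀ {a b}, B a b = 0 → B b a = 0 := fun {a b} h => by rw [← H.symm, h, map_zero]
  refine crit_of_flags H.inj fun x hx => ⟨resid (ρ x), (resid (ρ x)).orthogonalBilin B,
    fun c hc => ⟨fun v hv => map_mem_resid hc hv, fun v hv w hw => ?_⟩, ?_⟩
  · have hc' : c⁻¹ * x = x * c⁻¹ := (Commute.inv_left hc : Commute c⁻¹ x)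
    have := hv _ (map_mem_resid hc' hw)
    change B _ _ = 0 at this ⊢
    rw [← H.iso c] at this
    simpa using this
  intro y hy
  have hx1 : x ≠ 1 := by rintro rfl; simp at hx
  set W := resid (ρ x) with hW
  have hne : W ≠ ⊥ := resid_ne_bot H.inj hx1
  have mp : ∀ {v}, v ∈ W.orthogonalBilin B ↔ ∀ w ∈ W, B w v = 0 := Iff.rfl
  have hiso : ∀ a ∈ W, ∀ b ∈ W, B a b = 0 := by
    intro a ha b hb
    obtain ⟨v, rfl⟩ := mem_resid.mp hb
    rw [map_sub, ← H.iso x a v, apply_resid hx ha, sub_self]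
  have hle : ∀ a ∈ W, a ∈ W.orthogonalBilin B := fun a ha => mp.mpr fun b hb => hiso b hb a ha
  refine actsAs_of_transvections hy {p | p.2 ∈ W ∧ p.2 ≠ 0 ∧ p.1 = B p.2} ?_ ?_ ?_ ?_
  · rintro ⟨φ, w⟩ ⟨h1, h2, h3⟩
    simp only at h1 h2 h3
    obtain ⟨g, hg⟩ := H.tv w (hiso w h1 w h1) 1 (map_one σ)
    refine ⟨h1, h2, g, mem_flagU.mpr ⟨fun v => ?_, fun v _ => ?_, fun v hv => ?_⟩, ?_⟩
    · simpa [hg] using Submodule.smul_mem _ _ (hle w h1)
    · simpa [hg] using W.smul_mem _ h1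
    · simp [hg, hiso w h1 v hv]
    · simpa [h3] using hg
  · intro w hw hw0
    exact ⟨B w, fun h => hw0 (H.nd w fun y => by simp [h]), hw, hw0, rfl⟩
  · intro v hv
    refine mp.mpr fun w hw => ?_
    by_cases hw0 : w = 0
    · simp [hw0]
    · exact hv (B w, w) ⟨hw, hw0, rfl⟩
  · intro u hu
    obtain ⟨p, hp, hp0⟩ := Submodule.exists_mem_ne_zero_of_ne_bot hne
    obtain ⟨c, g, hg⟩ := H.eich p u (hiso p hp p hp) (mp.mp hu p hp)
    obtain ⟨s, hs⟩ : ∃ s, B p s ≠ 0 := by
      by_contra h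
      push Not at h
      exact hp0 (H.nd p h)
    refine ⟨g, mem_flagU.mpr ⟨fun v => ?_, fun v hv => ?_, fun v hv => ?_⟩, (B p s)⁻¹ • s, ?_⟩
    · have : ρ g v - v = B p v • u - B u v • p - (c * B p v) • p := by rw [hg]; abel
      rw [this]
      exact Submodule.sub_mem _ (Submodule.sub_mem _ (Submodule.smul_mem _ _ hu)
        (Submodule.smul_mem _ _ (hle p hp))) (Submodule.smul_mem _ _ (hle p hp))
    · have : ρ g v - v = - (B u v • p) := by rw [hg, mp.mp hv p hp]; module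
      rw [this]
      exact W.neg_mem (W.smul_mem _ hp)
    · rw [hg, hiso p hp v hv, zs (mp.mp hu v hv)]
      simp
    · have h1 : B p ((B p s)⁻¹ • s) = 1 := by simp [hs]
      generalize (B p s)⁻¹ • s = t at h1
      have : ρ g t - t - u = - ((B u t + c) • p) := by rw [hg, h1]; module
      rw [this]
      exact W.neg_mem (W.smul_mem _ hp)

/-- The fixed field of `σ` as an additive group. -/
def fixAdd (σ : F →+* F) : AddSubgroup F where
  carrier := {c | σ c = c}
  zero_mem' := map_zero σ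
  add_mem' := by
    intro a b ha hb
    simp only [Set.mem_ofPred_eq] at ha hb ⊢
    rw [map_add, ha, hb]
  neg_mem' := by
    intro a ha
    simp only [Set.mem_ofPred_eq] at ha ⊢
    rw [map_neg, ha]

theorem SesqGrp.pRank_one (H : SesqGrp ρ B) {p : V} (hp : B p p = 0) (hp0 : p ≠ 0)
    (hc : 8 ≤ Nat.card {c : F // σ c = c}) : PRankAtLeast 2 3 G := by
  choose f hf using fun c : fixAdd σ => H.tv p hp c c.2
  refine pRank_of_family f ?_ ?_ (fun a => Subtype.ext (CharTwo.add_self_eq_zero a.1)) hc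
  · intro a b
    apply H.inj
    ext v
    simp only [map_mul, LinearEquiv.mul_apply, hf, map_add, map_smul, hp, AddSubgroup.coe_add,
      smul_eq_mul, mul_zero, add_zero]
    module
  · intro a ha
    by_contra h0
    apply hp0
    apply H.nd
    intro v
    have := hf a v
    rw [ha] at this
    have h1 : (a : F) ≠ 0 := fun h => h0 (Subtype.ext h)
    simpa [hp0, h1] using this

theorem SesqGrp.pRank_two [Finite F] (H : SesqGrp ρ B) {p₁ p₂ s₁ s₂ : V} (h11 : B p₁ p₁ = 0)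
    (h12 : B p₁ p₂ = 0) (h21 : B p₂ p₁ = 0) (h22 : B p₂ p₂ = 0) (k11 : B p₁ s₁ = 1)
    (k12 : B p₁ s₂ = 0) (k21 : B p₂ s₁ = 0) (k22 : B p₂ s₂ = 1) : PRankAtLeast 2 3 G := by
  have h33 : B (p₁ + p₂) (p₁ + p₂) = 0 := by simp [h11, h12, h21, h22]
  choose f₁ hf₁ using fun c : fixAdd σ => H.tv p₁ h11 c c.2
  choose f₂ hf₂ using fun c : fixAdd σ => H.tv p₂ h22 c c.2
  choose f₃ hf₃ using fun c : fixAdd σ => H.tv (p₁ + p₂) h33 c c.2
  let f : fixAdd σ × fixAdd σ × fixAdd σ → G := fun a => f₁ a.1 * f₂ a.2.1 * f₃ a.2.2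
  have hf : ∀ a v, ρ (f a) v = v + (a.1 * B p₁ v) • p₁ + (a.2.1 * B p₂ v) • p₂ +
      (a.2.2 * (B p₁ v + B p₂ v)) • (p₁ + p₂) := by
    intro a v
    simp only [f, map_mul, LinearEquiv.mul_apply, hf₁, hf₂, hf₃, map_add, map_smul, h11, h12, h21,
      h22, LinearMap.add_apply, smul_eq_mul, mul_zero, add_zero]
    module
  refine pRank_of_family f ?_ ?_ ?_ ?_
  · intro a b
    apply H.inj
    ext v
    simp only [map_mul, LinearEquiv.mul_apply, hf, map_add, map_smul, h11, h12, h21, h22,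
      AddSubgroup.coe_add, Prod.fst_add, Prod.snd_add, smul_eq_mul, mul_zero, add_zero]
    module
  · rintro ⟨a, b, c⟩ ha
    have e1 := hf (a, b, c) s₁
    have e2 := hf (a, b, c) s₂
    rw [ha] at e1 e2
    simp only [map_one, LinearEquiv.coe_one, id_eq, k11, k12, k21, k22, mul_one, mul_zero,
      zero_smul, add_zero, zero_add, add_assoc, left_eq_add] at e1 e2
    have ha' : σ a = a := a.2
    have hb' : σ b = b := b.2
    have hc' : σ c = c := c.2
    have e3 := congrArg (fun z => B z s₂) e1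
    have e4 := congrArg (fun z => B z s₁) e1
    have e5 := congrArg (fun z => B z s₂) e2
    simp only [map_add, LinearMap.map_smulₛₗ, LinearMap.add_apply, LinearMap.smul_apply, k11, k12,
      k21, k22, ha', hb', hc', smul_eq_mul, mul_zero, mul_one, zero_add, add_zero, map_zero,
      LinearMap.zero_apply] at e3 e4 e5
    rw [e3, add_zero] at e4 e5
    ext <;> simp [e3, e4, e5]
  · intro a
    ext <;> simp [CharTwo.add_self_eq_zero]
  · have : 2 ≤ Nat.card (fixAdd σ) := by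
      have : Nontrivial (fixAdd σ) := ⟨⟨0, ⟨1, map_one σ⟩, fun h => by simpa using congrArg Subtype.val h⟩⟩
      exact Finite.one_lt_card
    rw [Nat.card_prod, Nat.card_prod]
    calc 8 = 2 * (2 * 2) := rfl
      _ ≤ _ := Nat.mul_le_mul this (Nat.mul_le_mul this this)

end linear

end CL.Even
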