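import Cfsg.Agent.Base
import Cfsg.Agent.Even.Flag
import Cfsg.Agent.Symp.Matrix
import Cfsg.Agent.Unitary.Eichler
import Cfsg.Agent.Unitary.Std
import Cfsg.Agent.Orth.Forms

/-! The classical groups in characteristic two: involution centralizers and the 2-rank. -/

set_option autoImplicit false

namespace CL.Even

open Cfsg

section transfer
variable {G H : Type*} [Group G] [Group H] [Finite G] [Finite H] [IsSimpleGroup G]

omit [Finite G] [IsSimpleGroup G] in
theorem not_comm_of_equiv {K : Type*} [Group K] (hG : ¬ IsMulCommutative G) (e : G ≃* K) :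
    ¬ IsMulCommutative K := fun h =>
  hG ⟨⟨fun a b => e.injective (by rw [map_mul, map_mul]; exact h.1.1 _ _)⟩⟩

theorem invCharTwo_of_crit (hG : ¬ IsMulCommutative G) (e : G ≃* H ⧸ Subgroup.center H)
    (h : CritModCenter H) : InvCharTwo G :=
  InvCharTwo.of_mulEquiv e (h.invCharTwo e.symm.isSimpleGroup (not_comm_of_equiv hG e))

omit [Finite G] in
theorem pRank_of_crit (hG : ¬ IsMulCommutative G) (e : G ≃* H ⧸ Subgroup.center H)
    (h : CritModCenter H) (hr : PRankAtLeast 2 3 H) : PRankAtLeast 2 3 G :=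
  pRankAtLeast_of_mulEquiv e.symm (pRankAtLeast_quotient_center
    (h.odd_card_center e.symm.isSimpleGroup (not_comm_of_equiv hG e)) hr)

end transfer

theorem card_eq_two_pow (F : Type*) [Field F] [Fintype F] [CharP F 2] :
    ∃ k : ℕ, 1 ≤ k ∧ Fintype.card F = 2 ^ k := by
  obtain ⟨k, -, hk⟩ := FiniteField.card F 2
  exact ⟨k, k.2, hk⟩

section SL
variable {F : Type*} [Field F] [CharP F 2] {n : ℕ}

omit [CharP F 2] in
theorem sl_transvection (φ : (Fin n → F) →ₗ[F] F) (w : Fin n → F) (h : φ w = 0) :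
    ∃ g : Matrix.SpecialLinearGroup (Fin n) F,
      ∀ v, Matrix.SpecialLinearGroup.toLin' g v = v + φ v • w := by
  obtain ⟨g, hg⟩ := Matrix.SpecialLinearGroup.toLin'_equiv.surjective
    (⟨LinearEquiv.transvection h, LinearEquiv.transvection.det_eq_one h⟩ :
      SpecialLinearGroup F (Fin n → F))
  refine ⟨g, fun v => ?_⟩
  have := congrArg (fun k : SpecialLinearGroup F (Fin n → F) => k.1 v) hg
  exact this

theorem crit_SL : CritModCenter (Matrix.SpecialLinearGroup (Fin n) F) :=
  crit_of_transvections Matrix.SpecialLinearGroup.toLin'_injective sl_transvection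

theorem pRank_SL (h : 8 ≤ Nat.card F ^ (n - 1)) :
    PRankAtLeast 2 3 (Matrix.SpecialLinearGroup (Fin n) F) :=
  pRank_of_transvections Matrix.SpecialLinearGroup.toLin'_injective sl_transvection
    (by simpa using h)

end SL

section Sp
open CL.Symp
variable {F : Type*} [Field F] [CharP F 2] {m : ℕ}

/-- The natural representation of the symplectic group. -/
noncomputable def spRep (m : ℕ) (F : Type*) [Field F] : Matrix.symplecticGroup (Fin m) F →*
    ((Fin m ⊕ Fin m → F) ≃ₗ[F] (Fin m ⊕ Fin m → F)) :=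
  (isom (form (Fin m) F)).subtype.comp (spEquiv (Fin m) F).toMonoidHom

theorem sesqGrp_sp : SesqGrp (σ := RingHom.id F) (spRep m F) (form (Fin m) F) := by
  have hs : ∀ x y, form (Fin m) F x y = form (Fin m) F y x := fun x y => by
    rw [alt_swap form_isAlt, CharTwo.neg_eq]
  have htv : ∀ p c, ∃ g, ∀ x, spRep m F g x = x + (c * form (Fin m) F p x) • p := fun p c =>
    ⟨spTv m p c, fun x => by rw [hs p x]; exact spTv_mulVec m p c x⟩
  refine ⟨Subtype.val_injective.comp (spEquiv (Fin m) F).injective, hs,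
    fun x hx => form_nondegenerate.1 x hx, fun g x y => (spEquiv (Fin m) F g).2 x y,
    fun p _ c _ => htv p c, ?_⟩
  intro p w hp hw
  obtain ⟨a, ha⟩ := htv (p + w) 1
  obtain ⟨b, hb⟩ := htv p 1
  obtain ⟨c, hc⟩ := htv w 1
  refine ⟨0, a * b * c, fun x => ?_⟩
  have hww : form (Fin m) F w w = 0 := form_isAlt w
  have hwp : form (Fin m) F w p = 0 := by rw [hs, hw]
  simp only [map_mul, LinearEquiv.mul_apply, ha, hb, hc, map_add, map_smul, hp, hw, hww, hwp,
    LinearMap.add_apply, smul_eq_mul, mul_zero, add_zero, one_mul]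
  have h1 := two_smul_eq_zero (F := F) (form (Fin m) F w x • w)
  have h2 := two_smul_eq_zero (F := F) (form (Fin m) F p x • p)
  have h3 := two_smul_eq_zero (F := F) (form (Fin m) F w x • p)
  linear_combination (norm := module) h1 + h2 + h3

theorem crit_Sp : CritModCenter (Matrix.symplecticGroup (Fin m) F) := sesqGrp_sp.crit

theorem pRank_Sp [Finite F] (hm : 2 ≤ m) : PRankAtLeast 2 3 (Matrix.symplecticGroup (Fin m) F) := by
  have h := isHyp_std (l := Fin m) (F := F)
  let i : Fin m := ⟨0, by omega⟩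
  let j : Fin m := ⟨1, by omega⟩
  have hij : i ≠ j := by simp [i, j]
  exact sesqGrp_sp.pRank_two (h.ee i i) (h.ee i j) (h.ee j i) (h.ee j j)
    (by simpa using h.ef i i) (by simpa [hij] using h.ef i j) (by simpa [hij.symm] using h.ef j i)
    (by simpa using h.ef j j)

end Sp

section SU
open CL.Herm
variable {F : Type*} [Field F] [CharP F 2] {n q : ℕ} {σ : F →+* F}

theorem sesqGrp_su (h : Conj σ q) : SesqGrp (suHom n F q) (stdForm σ (Fin n)) := by
  have H := h.isHerm_std (Fin n)
  have hr : ∀ g ∈ SUG (stdForm σ (Fin n)), ∃ k, suHom n F q k = g := fun g hg => by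
    rw [← h.range_suHom n] at hg
    exact hg
  refine ⟨suHom_injective, H.symm, H.nd, fun g x y => ?_, ?_, ?_⟩
  · have : suHom n F q g ∈ SUG (stdForm σ (Fin n)) := by
      rw [← h.range_suHom n]; exact ⟨g, rfl⟩
    exact SUG_le_UG this x y
  · intro p hp c hc
    obtain ⟨g, hg⟩ := exists_isTv' hp c
    obtain ⟨k, rfl⟩ := hr g (hg.mem_SUG H hp (by rw [hc, CharTwo.add_self_eq_zero]))
    exact ⟨k, hg⟩
  · intro p w hp hw
    obtain ⟨c, g, hg⟩ := H.exists_isEich' hp hw
    obtain ⟨k, rfl⟩ := hr g (hg.mem_SUG H)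
    exact ⟨c, k, hg.eq⟩

theorem crit_SU (h : Conj σ q) : CritModCenter (SU n F q) := (sesqGrp_su h).crit

theorem pRank_SU_four (h : Conj σ q) (hn : 4 ≤ n) : PRankAtLeast 2 3 (SU n F q) := by
  have := h.finite
  have h2 : (1 : F) + 1 = 0 := CharTwo.add_self_eq_zero 1
  let e : Fin 4 → Fin n → F := fun i => Pi.single (Fin.castLE hn i) 1
  have he : ∀ i j, stdForm σ (Fin n) (e i) (e j) = if i = j then 1 else 0 := by
    intro i j
    simp only [e, stdForm_single_left, map_one, one_mul, Pi.single_apply, Fin.castLE_inj]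
  refine (sesqGrp_su (n := n) h).pRank_two (p₁ := e 0 + e 1) (p₂ := e 2 + e 3) (s₁ := e 0)
    (s₂ := e 2) ?_ ?_ ?_ ?_ ?_ ?_ ?_ ?_ <;> simp [he, h2]

theorem pRank_SU_large (h : Conj σ q) (hn : 2 ≤ n) (hq : 8 ≤ q) :
    PRankAtLeast 2 3 (SU n F q) := by
  have h2 : (1 : F) + 1 = 0 := CharTwo.add_self_eq_zero 1
  let e : Fin 2 → Fin n → F := fun i => Pi.single (Fin.castLE hn i) 1
  have he : ∀ i j, stdForm σ (Fin n) (e i) (e j) = if i = j then 1 else 0 := by
    intro i j
    simp only [e, stdForm_single_left, map_one, one_mul, Pi.single_apply, Fin.castLE_inj]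
  refine (sesqGrp_su (n := n) h).pRank_one (p := e 0 + e 1) (by simp [he, h2]) ?_
    (by rwa [h.card_fixed])
  intro h0
  have := congrArg (stdForm σ (Fin n) (e 0)) h0
  simp [he] at this

end SU

section Orth
open CL.Orth QuadraticMap Module
variable {F V : Type*} [Field F] [AddCommGroup V] [Module F V] [CharP F 2] [FiniteDimensional F V]
  {Q : QuadraticForm F V}

/-- The natural representation of `Ω`. -/
def omRep (Q : QuadraticForm F V) : commutator (O Q) →* (V ≃ₗ[F] V) :=
  (O Q).subtype.comp (commutator (O Q)).subtype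

omit [CharP F 2] [FiniteDimensional F V] in
theorem omRep_injective : Function.Injective (omRep Q) :=
  Subtype.val_injective.comp Subtype.val_injective

omit [CharP F 2] in
theorem exists_om_eich (hQ : Q.polarBilin.Nondegenerate) (h5 : 5 ≤ finrank F V) {u w : V}
    (hu : Q u = 0) (hw : polar Q u w = 0) : ∃ g : commutator (O Q), ∀ x, omRep Q g x =
      x + polar Q u x • w - polar Q w x • u - (Q w * polar Q u x) • u :=
  ⟨⟨eich Q u w, E_le_commutator hQ (tame_of_finrank_ne_four hQ (by omega)) (eich_mem_E u w)⟩,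
    eich_apply hu hw⟩

omit [FiniteDimensional F V] in
theorem polar_resid {x : commutator (O Q)} (hx : orderOf x = 2) {a b : V}
    (ha : a ∈ resid (omRep Q x)) (hb : b ∈ resid (omRep Q x)) : polar Q a b = 0 := by
  obtain ⟨v, rfl⟩ := mem_resid.mp hb
  have h1 : polar Q (omRep Q x a) (omRep Q x v) = polar Q a v := O_polar x.1 a v
  rw [polar_sub_right, ← h1, apply_resid hx ha, sub_self]

/-- The singular vectors in the range of `x - 1`. -/
def singResid {x : commutator (O Q)} (hx : orderOf x = 2) : Submodule F V where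
  carrier := {w | w ∈ resid (omRep Q x) ∧ Q w = 0}
  zero_mem' := ⟨Submodule.zero_mem _, map_zero Q⟩
  add_mem' := by
    rintro a b ⟨ha, ha'⟩ ⟨hb, hb'⟩
    exact ⟨Submodule.add_mem _ ha hb, by rw [Q_add, ha', hb', polar_resid hx ha hb]; simp⟩
  smul_mem' := by
    rintro c a ⟨ha, ha'⟩
    exact ⟨Submodule.smul_mem _ c ha, by rw [Q_smul, ha', mul_zero]⟩

theorem singResid_ne_bot [Finite F] (hQ : Q.polarBilin.Nondegenerate) (h5 : 5 ≤ finrank F V)
    {x : commutator (O Q)} (hx : orderOf x = 2) : singResid hx ≠ ⊥ := by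
  have hx1 : x ≠ 1 := by rintro rfl; simp at hx
  have hT := tame_of_finrank_ne_four hQ (by omega : finrank F V ≠ 4)
  have hd : dsign x.1 = 1 := Abelianization.commutator_subset_ker (dickson hQ hT) x.2
  have hr : finrank F (resid (omRep Q x)) = finrank F V - finrank F (fix x.1) := by
    rw [← finrank_perp hQ, ← range_subId hQ]; rfl
  have h0 : finrank F (resid (omRep Q x)) ≠ 0 := by
    rw [Ne, Submodule.finrank_eq_zero]
    exact resid_ne_bot omRep_injective hx1
  have h1 : finrank F (resid (omRep Q x)) ≠ 1 := by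
    intro h1
    rw [dsign, ← hr, h1] at hd
    exact absurd hd (by decide)
  obtain ⟨r, hr1, hr0⟩ := Submodule.exists_mem_ne_zero_of_ne_bot (resid_ne_bot omRep_injective hx1)
  obtain ⟨s, hs1, hs0⟩ : ∃ s ∈ resid (omRep Q x), s ∉ F ∙ r := by
    by_contra hc
    push Not at hc
    have := Submodule.finrank_mono (show resid (omRep Q x) ≤ F ∙ r from hc)
    rw [finrank_span_singleton hr0] at this
    omega
  have h2 : (2 : F) = 0 := CharTwo.two_eq_zero
  obtain ⟨a, ha⟩ := isSquare_of_two_eq_zero h2 (Q r)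
  obtain ⟨b, hb⟩ := isSquare_of_two_eq_zero h2 (Q s)
  rw [Submodule.ne_bot_iff]
  by_cases ha0 : a = 0
  · exact ⟨r, ⟨hr1, by rw [ha, ha0, mul_zero]⟩, hr0⟩
  · refine ⟨a • s + b • r, ⟨Submodule.add_mem _ (Submodule.smul_mem _ _ hs1)
      (Submodule.smul_mem _ _ hr1), ?_⟩, fun h => hs0 ?_⟩
    · rw [Q_add, Q_smul, Q_smul, polar_resid hx (Submodule.smul_mem _ _ hs1)
        (Submodule.smul_mem _ _ hr1), ha, hb]
      linear_combination (a * a * b * b) * h2
    · refine Submodule.mem_span_singleton.mpr ⟨-(a⁻¹ * b), ?_⟩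
      have : s = a⁻¹ • (a • s) := by rw [smul_smul, inv_mul_cancel₀ ha0, one_smul]
      rw [this, eq_neg_of_add_eq_zero_left h]
      module

omit [CharP F 2] [FiniteDimensional F V] in
theorem eich_mem_flagU {W : Submodule F V} (hW : ∀ w ∈ W, w ∈ perp Q W) {u w : V} (hu : u ∈ W)
    (hw : w ∈ perp Q W) {g : commutator (O Q)} (hg : ∀ x, omRep Q g x =
      x + polar Q u x • w - polar Q w x • u - (Q w * polar Q u x) • u) :
    g ∈ flagU (omRep Q) W (perp Q W) := by
  refine mem_flagU.mpr ⟨fun v => ?_, fun v hv => ?_, fun v hv => ?_⟩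
  · have : omRep Q g v - v = polar Q u v • w - polar Q w v • u - (Q w * polar Q u v) • u := by
      rw [hg]; abel
    rw [this]
    exact Submodule.sub_mem _ (Submodule.sub_mem _ (Submodule.smul_mem _ _ hw)
      (Submodule.smul_mem _ _ (hW u hu))) (Submodule.smul_mem _ _ (hW u hu))
  · have : omRep Q g v - v = - (polar Q w v • u) := by rw [hg, mem_perp.mp hv u hu]; module
    rw [this]
    exact W.neg_mem (W.smul_mem _ hu)
  · rw [hg, mem_perp.mp (hW v hv) u hu, polar_comm, mem_perp.mp hw v hv]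
    simp

omit [CharP F 2] [FiniteDimensional F V] in
theorem finrank_span_one_le (w : V) : finrank F (F ∙ w) ≤ 2 := by
  classical
  have := finrank_span_finset_le_card (R := F) ({w} : Finset V)
  rw [Set.finrank, Finset.coe_singleton] at this
  exact this.trans (by simp)

theorem crit_Omega [Finite F] (hQ : Q.polarBilin.Nondegenerate) (h5 : 5 ≤ finrank F V) :
    CritModCenter (commutator (O Q)) := by
  have iso : ∀ (g : commutator (O Q)) a b, polar Q (omRep Q g a) (omRep Q g b) = polar Q a b :=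
    fun g a b => O_polar g.1 a b
  refine crit_of_flags omRep_injective fun x hx => ⟨singResid hx, perp Q (singResid hx),
    fun c hc => ⟨fun v hv => ⟨map_mem_resid hc hv.1, (O_map c.1 v).trans hv.2⟩,
      fun v hv => mem_perp.mpr fun w hw => ?_⟩, ?_⟩
  · have hc' : c⁻¹ * x = x * c⁻¹ := (Commute.inv_left hc : Commute c⁻¹ x)
    have := mem_perp.mp hv (omRep Q c⁻¹ w) ⟨map_mem_resid hc' hw.1, (O_map c⁻¹.1 w).trans hw.2⟩
    rw [← iso c] at this
    simpa using this
  intro y hy
  have hne := singResid_ne_bot hQ h5 hx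
  have hsing : ∀ w ∈ singResid hx, Q w = 0 := fun w hw => hw.2
  have hW : ∀ w ∈ singResid hx, w ∈ perp Q (singResid hx) := fun w hw =>
    mem_perp.mpr fun s hs => polar_resid hx hs.1 hw.1
  generalize singResid hx = W at hne hsing hW hy
  have comm : ∀ g ∈ flagU (omRep Q) W (perp Q W), ∀ v,
      omRep Q g (omRep Q y v) = omRep Q y (omRep Q g v) := by
    intro g hg v
    rw [← LinearEquiv.mul_apply, ← map_mul, hy g hg, map_mul, LinearEquiv.mul_apply]
  have hdim : 3 ≤ finrank F (perp Q W) := by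
    have h1 := two_mul_finrank_le hQ hsing
    have h2 := finrank_perp_add hQ W
    omega
  have hout : ∀ S : Submodule F V, finrank F S ≤ 2 → ∃ u ∈ perp Q W, u ∉ S := by
    intro S hS
    by_contra hc
    push Not at hc
    have := Submodule.finrank_mono (show perp Q W ≤ S from hc)
    omega
  -- every vector of `W` is an eigenvector
  have span2 : ∀ w ∈ W, ∀ u ∈ perp Q W, u ∉ F ∙ w →
      ∃ a b : F, omRep Q y w = a • w + b • u := by
    intro w hw u hu huw
    obtain ⟨g, hg⟩ := exists_om_eich hQ h5 (hsing w hw) (mem_perp.mp hu w hw)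
    obtain ⟨v, hv1, hv2⟩ := exists_polar_eq_one hQ huw
    have h1 := comm g (eich_mem_flagU hW hw hu hg) v
    have h2 := hv1 w (Submodule.mem_span_singleton_self w)
    rw [hg, hg, h2, hv2] at h1
    simp only [zero_smul, add_zero, one_smul, mul_zero, sub_zero, map_sub] at h1
    exact ⟨polar Q u (omRep Q y v) + Q u * polar Q w (omRep Q y v), -polar Q w (omRep Q y v), by
      linear_combination (norm := module) h1⟩
  obtain ⟨c, hc⟩ : ∃ c : F, ∀ w ∈ W, (omRep Q y : V →ₗ[F] V) w = c • w := by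
    apply exists_scalar_on
    intro w hw
    obtain ⟨u, hu, huw⟩ := hout (F ∙ w) (finrank_span_one_le w)
    obtain ⟨u', hu', huw'⟩ := hout (Submodule.span F {w, u}) (by
      classical
      have := finrank_span_finset_le_card (R := F) ({w, u} : Finset V)
      rw [Set.finrank, Finset.coe_pair] at this
      exact this.trans Finset.card_le_two)
    obtain ⟨a, b, hab⟩ := span2 w hw u hu huw
    obtain ⟨a', b', hab'⟩ := span2 w hw u' hu' (fun h => huw' (Submodule.span_mono (by simp) h))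
    by_cases hb : b' = 0
    · exact ⟨a', by simpa [hb] using hab'⟩
    · refine absurd (Submodule.mem_span_pair.mpr ⟨b'⁻¹ * (a - a'), b'⁻¹ * b, ?_⟩) huw'
      have : u' = b'⁻¹ • (b' • u') := by rw [smul_smul, inv_mul_cancel₀ hb, one_smul]
      rw [this]
      linear_combination (norm := module) b'⁻¹ • (hab' - hab)
  simp only [LinearEquiv.coe_coe] at hc
  obtain ⟨p, hp, hp0⟩ := Submodule.exists_mem_ne_zero_of_ne_bot hne
  have hc0 : c ≠ 0 := by
    rintro rfl
    exact hp0 ((omRep Q y).map_eq_zero_iff.mp (by rw [hc p hp, zero_smul]))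
  have h1 : ∀ v, omRep Q y v - c⁻¹ • v ∈ perp Q W := fun v => mem_perp.mpr fun w hw => by
    have := iso y w v
    rw [hc w hw, polar_smul_left'] at this
    rw [polar_sub_right, polar_smul_right', ← this]
    field_simp
    ring
  -- the action on `W^⊥`
  have h2 : ∀ u ∈ perp Q W, ∀ v, polar Q p v = 1 → ∃ a : F, omRep Q y u - c⁻¹ • u =
      a • p ∧ (u ∈ W → polar Q u v = 0 → a = 0) := by
    intro u hu v hv
    obtain ⟨g, hg⟩ := exists_om_eich hQ h5 (hsing p hp) (mem_perp.mp hu p hp)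
    have h3 := comm g (eich_mem_flagU hW hp hu hg) v
    obtain ⟨v', hv'⟩ : ∃ v', omRep Q y v = c⁻¹ • v + v' := ⟨omRep Q y v - c⁻¹ • v, by abel⟩
    have hv'' : v' ∈ perp Q W := by simpa [hv'] using h1 v
    rw [hg v, hv', map_add, map_smul, hg v, hg v', hv, mem_perp.mp hv'' p hp] at h3
    simp only [one_smul, mul_one, zero_smul, add_zero, mul_zero, sub_zero, map_sub, map_add,
      map_smul, hc p hp, hv'] at h3
    refine ⟨(c - c⁻¹) * (polar Q u v + Q u) - polar Q u v', ?_, fun huW h0 => ?_⟩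
    · linear_combination (norm := module) - h3
    · rw [h0, hsing u huW, mem_perp.mp hv'' u huW]; simp
  obtain ⟨v₀, -, hv₀⟩ := exists_polar_eq_one hQ (S := ⊥) (x := p) (by simpa using hp0)
  have h3 : ∀ u ∈ perp Q W, omRep Q y u - c⁻¹ • u ∈ W := fun u hu => by
    obtain ⟨a, ha, -⟩ := h2 u hu v₀ hv₀
    rw [ha]; exact W.smul_mem _ hp
  have hcc : c⁻¹ = c := by
    by_cases hp2 : ∃ u ∈ perp Q W, ∃ u' ∈ perp Q W, polar Q u u' ≠ 0
    · obtain ⟨u, hu, u', hu', huu⟩ := hp2
      have e := iso y u u'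
      obtain ⟨w, hw⟩ : ∃ w, omRep Q y u = c⁻¹ • u + w := ⟨omRep Q y u - c⁻¹ • u, by abel⟩
      obtain ⟨w', hw'⟩ : ∃ w', omRep Q y u' = c⁻¹ • u' + w' := ⟨omRep Q y u' - c⁻¹ • u', by abel⟩
      have hwW : w ∈ W := by simpa [hw] using h3 u hu
      have hwW' : w' ∈ W := by simpa [hw'] using h3 u' hu'
      rw [hw, hw', polar_add_left, polar_add_right, polar_add_right, polar_smul_left',
        polar_smul_left', polar_smul_right', polar_smul_right', mem_perp.mp hu' w hwW,
        mem_perp.mp (hW w' hwW') w hwW, polar_comm _ u w', mem_perp.mp hu w' hwW'] at e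
      have : c⁻¹ * c⁻¹ = 1 := by
        apply mul_right_cancel₀ huu
        linear_combination e
      field_simp at this ⊢
      linear_combination this
    · push Not at hp2
      have hle : perp Q W ≤ W := by
        conv_rhs => rw [← perp_perp hQ W]
        exact fun u hu => mem_perp.mpr fun s hs => hp2 s hs u hu
      obtain ⟨u, hu, hup⟩ := hout (F ∙ p) (finrank_span_one_le p)
      have hu0 : u ≠ 0 := by rintro rfl; exact hup (Submodule.zero_mem _)
      obtain ⟨v, hv1, hv2⟩ := exists_polar_eq_one hQ (S := F ∙ u) (x := p)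
        (not_mem_span_symm hp0 hup)
      obtain ⟨a, ha, ha0⟩ := h2 u hu v hv2
      rw [ha0 (hle hu) (hv1 u (Submodule.mem_span_singleton_self u)), zero_smul, hc u (hle hu),
        sub_eq_zero] at ha
      exact (smul_left_injective F hu0 ha).symm
  rw [hcc] at h1 h3
  exact ⟨c, h1, h3, hc⟩

theorem pRank_Omega [Finite F] (hQ : Q.polarBilin.Nondegenerate) (h5 : 5 ≤ finrank F V) {p : V}
    (hp : Q p = 0) (hp0 : p ≠ 0) : PRankAtLeast 2 3 (commutator (O Q)) := by
  obtain ⟨s, hs0, hs⟩ := exists_hyp_partner' hQ hp hp0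
  let A := perp Q (Submodule.span F {p, s})
  have hA : ∀ a : A, polar Q p a = 0 ∧ polar Q s a = 0 := fun a => by
    simpa using mem_perp_span.mp a.2
  choose f hf using fun a : A => exists_om_eich hQ h5 hp (hA a).1
  have hf' : ∀ a, (f a).1 = eich Q p a := fun a => O_ext fun x => by
    rw [eich_apply hp (hA a).1]; exact hf a x
  refine pRank_of_family f ?_ ?_ (fun a => two_smul_eq_zero (F := F) a) ?_
  · intro a b
    apply Subtype.ext
    rw [Subgroup.coe_mul, hf', hf', hf', Submodule.coe_add, eich_add hp (hA a).1 (hA b).1]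
  · intro a ha
    have h1 := hf a s
    rw [ha, hs, polar_comm, (hA a).2] at h1
    simp only [map_one, LinearEquiv.coe_one, id_eq, one_smul, zero_smul, sub_zero, mul_one] at h1
    have h2 : (a : V) = Q a • p := by linear_combination (norm := module) - h1
    have h3 := (hA a).2
    rw [h2, polar_smul_right', polar_comm, hs, mul_one] at h3
    rw [h3, zero_smul] at h2
    exact Subtype.ext h2
  · rw [Module.natCard_eq_pow_finrank (K := F)]
    have h1 := finrank_perp_add hQ (Submodule.span F {p, s})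
    have h2 : finrank F (Submodule.span F {p, s}) ≤ 2 := by
      classical
      have := finrank_span_finset_le_card (R := F) ({p, s} : Finset V)
      rw [Set.finrank, Finset.coe_pair] at this
      exact this.trans Finset.card_le_two
    have h3 : 2 ≤ Nat.card F := Finite.one_lt_card
    calc 8 = 2 ^ 3 := rfl
      _ ≤ Nat.card F ^ 3 := Nat.pow_le_pow_left h3 3
      _ ≤ _ := Nat.pow_le_pow_right (by omega) (by change 3 ≤ finrank F (perp Q _); omega)

end Orth

section families
variable {G : Type*} [Group G] [Finite G] [IsSimpleGroup G]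

theorem invCharTwo_PSL (hG : ¬ IsMulCommutative G) (h : IsPSLChar 2 G) : InvCharTwo G := by
  obtain ⟨F, _, _, _, n, -, -, ⟨e⟩⟩ := h
  exact invCharTwo_of_crit hG e crit_SL

theorem invCharTwo_PSp (hG : ¬ IsMulCommutative G) (h : IsPSpChar 2 G) : InvCharTwo G := by
  obtain ⟨F, _, _, _, n, -, -, ⟨e⟩⟩ := h
  exact invCharTwo_of_crit hG e crit_Sp

theorem invCharTwo_PSU (hG : ¬ IsMulCommutative G) (h : IsPSUChar 2 G) : InvCharTwo G := by
  obtain ⟨F, _, _, _, n, q, hq, -, -, ⟨e⟩⟩ := h
  obtain ⟨σ, hσ⟩ := CL.Herm.exists_conj' hq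
  exact invCharTwo_of_crit hG e (crit_SU hσ)

omit [Finite G] [IsSimpleGroup G] in
theorem not_isPOmegaOddChar_two : ¬ IsPOmegaOddChar 2 G := by
  rintro ⟨F, _, _, _, m, -, h, -⟩
  exact CL.Orth.two_ne_zero_of_odd_card h CharTwo.two_eq_zero

theorem finite_omega {F V : Type*} [Field F] [Finite F] [AddCommGroup V] [Module F V]
    [FiniteDimensional F V] (Q : QuadraticForm F V) : Finite (commutator (CL.Orth.O Q)) := by
  have : Finite V := Module.finite_of_finite F
  have : Finite (V ≃ₗ[F] V) := Finite.of_injective _ DFunLike.coe_injective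
  infer_instance

theorem omega_plus (hG : ¬ IsMulCommutative G) (h : IsPOmegaPlusChar 2 G) :
    InvCharTwo G ∧ PRankAtLeast 2 3 G := by
  obtain ⟨F, _, _, _, m, hm, ⟨e⟩⟩ := h
  have := finite_omega (CL.Orth.qPlus m F)
  have h5 : 5 ≤ Module.finrank F (Fin m ⊕ Fin m → F) := by rw [CL.Orth.finrank_plus]; omega
  have hQ := CL.Orth.qPlus_nondegenerate (F := F) m
  obtain ⟨u, hu, hu0⟩ := CL.Orth.exists_singular_qPlus (F := F) (by omega : 1 ≤ m)
  let e' := e.trans (CL.Orth.pomegaEquiv (CL.Orth.qPlus m F))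
  exact ⟨invCharTwo_of_crit hG e' (crit_Omega hQ h5),
    pRank_of_crit hG e' (crit_Omega hQ h5) (pRank_Omega hQ h5 hu hu0)⟩

theorem omega_minus (hG : ¬ IsMulCommutative G) (h : IsPOmegaMinusChar 2 G) :
    InvCharTwo G ∧ PRankAtLeast 2 3 G := by
  obtain ⟨F, _, _, _, m, a, b, hm, hab, ⟨e⟩⟩ := h
  have := finite_omega (CL.Orth.qMinus (m - 1) F a b)
  have h5 : 5 ≤ Module.finrank F ((Fin (m - 1) ⊕ Fin (m - 1)) ⊕ Fin 2 → F) := by
    rw [CL.Orth.finrank_minus]; omega
  have hQ := CL.Orth.qMinus_nondegenerate (m - 1) (CL.Orth.disc_ne_zero hab)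
  obtain ⟨u, hu, hu0⟩ := CL.Orth.exists_singular_qMinus (by omega : 1 ≤ m - 1) a b
  let e' := e.trans (CL.Orth.pomegaEquiv (CL.Orth.qMinus (m - 1) F a b))
  exact ⟨invCharTwo_of_crit hG e' (crit_Omega hQ h5),
    pRank_of_crit hG e' (crit_Omega hQ h5) (pRank_Omega hQ h5 hu hu0)⟩

omit [Finite G] in
theorem pRank_PSL (hG : ¬ IsMulCommutative G) (h : IsPSLChar 2 G)
    (h1 : ¬ ∃ (F : Type) (_ : Field F) (_ : Fintype F), Fintype.card F = 4 ∧
      Nonempty (G ≃* Matrix.ProjectiveSpecialLinearGroup (Fin 2) F))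
    (h3 : ¬ ∃ (F : Type) (_ : Field F) (_ : Fintype F), Fintype.card F = 2 ∧
      Nonempty (G ≃* Matrix.ProjectiveSpecialLinearGroup (Fin 3) F)) : PRankAtLeast 2 3 G := by
  obtain ⟨F, _, _, _, n, hn, hn2, ⟨e⟩⟩ := h
  refine pRank_of_crit hG e crit_SL (pRank_SL ?_)
  obtain ⟨k, hk, hF⟩ := card_eq_two_pow F
  rw [Nat.card_eq_fintype_card, hF, ← pow_mul]
  refine Nat.pow_le_pow_right two_pos (?_ : 3 ≤ k * (n - 1))
  rcases (by omega : n = 2 ∨ n = 3 ∨ 4 ≤ n) with rfl | rfl | h4
  · have h5 : k ≠ 2 := by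
      rintro rfl
      exact h1 ⟨F, _, _, hF, ⟨e⟩⟩
    have h6 : k ≠ 1 := by
      rintro rfl
      have := hn2 rfl
      omega
    omega
  · have h6 : k ≠ 1 := by
      rintro rfl
      exact h3 ⟨F, _, _, hF, ⟨e⟩⟩
    omega
  · calc 3 = 1 * 3 := rfl
      _ ≤ _ := Nat.mul_le_mul hk (by omega)

omit [Finite G] in
theorem pRank_PSp (hG : ¬ IsMulCommutative G) (h : IsPSpChar 2 G) : PRankAtLeast 2 3 G := by
  obtain ⟨F, _, _, _, n, hn, -, ⟨e⟩⟩ := h
  exact pRank_of_crit hG e crit_Sp (pRank_Sp hn)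

omit [Finite G] in
theorem pRank_PSU (hG : ¬ IsMulCommutative G) (h : IsPSUChar 2 G)
    (h2 : ¬ ∃ (F : Type) (_ : Field F) (_ : Fintype F), Fintype.card F = 16 ∧
      Nonempty (G ≃* PSU 3 F 4)) : PRankAtLeast 2 3 G := by
  obtain ⟨F, _, _, _, n, q, hq, hn, hn2, ⟨e⟩⟩ := h
  obtain ⟨σ, hσ⟩ := CL.Herm.exists_conj' hq
  refine pRank_of_crit hG e (crit_SU hσ) ?_
  rcases (by omega : n = 3 ∨ 4 ≤ n) with rfl | h4
  · refine pRank_SU_large hσ (by norm_num) ?_
    obtain ⟨k, -, hF⟩ := card_eq_two_pow F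
    obtain ⟨j, -, rfl⟩ := (Nat.dvd_prime_pow Nat.prime_two).mp
      (show q ∣ 2 ^ k by rw [← hF, hq]; exact dvd_pow_self q two_ne_zero)
    have h0 : j ≠ 0 := by
      rintro rfl
      have := hσ.two_le
      omega
    have h1 : j ≠ 1 := by
      rintro rfl
      exact hn2 ⟨rfl, rfl⟩
    have h3 : j ≠ 2 := by
      rintro rfl
      exact h2 ⟨F, _, _, hq, ⟨e⟩⟩
    exact Nat.pow_le_pow_right two_pos (by omega : 3 ≤ j)
  · exact pRank_SU_four hσ h4

end families

end CL.Even
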