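import Cfsg.Agent.Base
import Cfsg.Agent.Even.CharTwo
import Cfsg.Agent.Chev.TwAbs3

/-! Group-theoretic lemmas for the Borel-Tits theorem in twisted groups. -/

set_option autoImplicit false

namespace CL.Even

open Cfsg CL.Tw

section groups
variable {G : Type*} [Group G]

theorem exists_conj_mem_of_not_dvd_index [Finite G] {p : ℕ} [Fact p.Prime] {H : Subgroup G}
    (hH : ¬ p ∣ H.index) {x : G} (hx : orderOf x = p) : ∃ g : G, g * x * g⁻¹ ∈ H := by
  have hP : IsPGroup p (Subgroup.zpowers x) :=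
    IsPGroup.of_card (n := 1) (by rw [Nat.card_zpowers, hx, pow_one])
  obtain ⟨a, ha⟩ := hP.nonempty_fixed_point_of_prime_not_dvd_card (G ⧸ H) hH
  obtain ⟨g, rfl⟩ := QuotientGroup.mk_surjective a
  have := ha ⟨x, Subgroup.mem_zpowers x⟩
  refine ⟨g⁻¹, ?_⟩
  have h1 : ((x * g : G) : G ⧸ H) = g := this
  have := QuotientGroup.eq.mp h1.symm
  simpa [mul_assoc] using this

/-- An element of odd prime order of `U H` is conjugate to its `H`-part. -/
theorem exists_conj_eq_of_odd [Finite G] {U H : Subgroup G} (hU : IsPGroup 2 U)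
    (hn : ∀ h ∈ H, ∀ u ∈ U, h * u * h⁻¹ ∈ U) (hd : ∀ g ∈ U, g ∈ H → g = 1) {u h : G} (hu : u ∈ U)
    (hh : h ∈ H) {q : ℕ} (hq : q.Prime) (hq2 : q ≠ 2) (hy : (u * h) ^ q = 1) :
    ∃ v ∈ U, v⁻¹ * (u * h) * v = h := by
  classical
  have := Fact.mk hq
  have := Fintype.ofFinite U
  let φ : U → U := fun v => ⟨u * (h * v * h⁻¹), U.mul_mem hu (hn h hh v v.2)⟩
  have hφ : Function.Injective φ := fun a b hab => by
    have := congrArg Subtype.val hab
    simp only [φ, mul_right_inj, mul_left_inj] at this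
    exact Subtype.ext this
  let π : Equiv.Perm U := Equiv.ofBijective φ (Finite.injective_iff_bijective.mp hφ)
  have hpow : ∀ (n : ℕ) (v : U), ((π ^ n) v : G) = (u * h) ^ n * v * (h ^ n)⁻¹ := by
    intro n
    induction n with
    | zero => simp
    | succ n ih =>
      intro v
      rw [pow_succ', Equiv.Perm.mul_apply]
      change u * (h * ((π ^ n) v : G) * h⁻¹) = _
      rw [ih, pow_succ', pow_succ' h]
      group
  have h1 : h ^ q = 1 := by
    have h2 := ((π ^ q) 1).2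
    rw [hpow, hy] at h2
    exact hd _ (by simpa using h2) (H.pow_mem hh q)
  have h2 : π ^ q ^ 1 = 1 := by
    ext v
    rw [pow_one, hpow, hy, h1]; simp
  obtain ⟨k, hk⟩ := IsPGroup.iff_card.mp hU
  obtain ⟨v, hv⟩ := Equiv.Perm.exists_fixed_point_of_prime (p := q) (by
    rw [← Nat.card_eq_fintype_card, hk]
    intro hd
    exact hq2 ((Nat.prime_dvd_prime_iff_eq hq Nat.prime_two).mp (hq.dvd_of_dvd_pow hd))) h2
  refine ⟨v, v.2, ?_⟩
  have h3 : u * (h * v * h⁻¹) = v := congrArg Subtype.val hv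
  calc (v : G)⁻¹ * (u * h) * v = (v : G)⁻¹ * (u * (h * v * h⁻¹)) * h := by group
    _ = h := by rw [h3]; group

/-- The criterion for a subgroup `Γ` of an ambient group. -/
theorem invCharTwo_of_ambient [Finite G] (Γ : Subgroup G)
    (h : ∀ x ∈ Γ, orderOf x = 2 → ∃ g ∈ Γ, ∃ V : Subgroup G, IsPGroup 2 V ∧ V ≤ Γ ∧
      (∀ c ∈ Γ, c * (g * x * g⁻¹) = (g * x * g⁻¹) * c → c ∈ Subgroup.normalizer (V : Set G)) ∧
      ∀ y ∈ Γ, (∀ v ∈ V, v * y = y * v) → ∀ q : ℕ, q.Prime → q ≠ 2 → y ^ q = 1 → y = 1) :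
    InvCharTwo Γ := by
  intro x hx
  obtain ⟨g, hg, V, hV, hVΓ, h1, h2⟩ := h x x.2 (by rwa [Subgroup.orderOf_coe])
  let g' : Γ := ⟨g, hg⟩
  have key : NoCoreNoComp (Subgroup.centralizer ({g' * x * g'⁻¹} : Set Γ)) := by
    have ho : orderOf (g' * x * g'⁻¹) = 2 :=
      (orderOf_injective (MulAut.conj g').toMonoidHom (MulAut.conj g').injective x).trans hx
    refine noCoreNoComp_centralizer_of_crit ho (V.subgroupOf Γ) hV.comap_subtype ?_ ?_
    · intro c hc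
      have := h1 c c.2 (congrArg Subtype.val (Subgroup.mem_centralizer_singleton_iff.mp hc))
      rw [Subgroup.mem_normalizer_iff] at this ⊢
      exact fun v => this v
    · intro y hy hodd
      by_contra hy1
      have h3 : orderOf y ≠ 1 := fun h => hy1 (orderOf_eq_one_iff.mp h)
      obtain ⟨q, hq, m, hm⟩ := Nat.exists_prime_and_dvd h3
      have hq2 : q ≠ 2 := by
        rintro rfl
        rw [hm] at hodd
        exact (Nat.not_even_iff_odd.mpr hodd) (even_two_mul m)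
      have h4 : ((y ^ m : Γ) : G) = 1 := by
        refine h2 _ (y ^ m).2 (fun v hv => ?_) q hq hq2 ?_
        · exact congrArg Subtype.val (Subgroup.pow_mem _ hy m ⟨v, hVΓ hv⟩ hv)
        · rw [← Subgroup.coe_pow, ← pow_mul, mul_comm, ← hm, pow_orderOf_eq_one]; rfl
      have h5 : orderOf y ∣ m := orderOf_dvd_of_pow_eq_one (Subtype.ext h4)
      have h6 : 0 < m := Nat.pos_of_ne_zero (by
        rintro rfl
        exact (orderOf_pos y).ne' hm)
      have := Nat.le_of_dvd h6 h5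
      have := hq.two_le
      nlinarith
  let e : Subgroup.centralizer ({x} : Set Γ) →* Subgroup.centralizer ({g' * x * g'⁻¹} : Set Γ) :=
    ((MulAut.conj g').toMonoidHom.comp (Subgroup.subtype _)).codRestrict _ fun c => by
      rw [Subgroup.mem_centralizer_singleton_iff]
      have := Subgroup.mem_centralizer_singleton_iff.mp c.2
      change g' * c * g'⁻¹ * _ = _ * (g' * c * g'⁻¹)
      calc g' * c * g'⁻¹ * (g' * x * g'⁻¹) = g' * (c * x) * g'⁻¹ := by group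
        _ = _ := by rw [this]; group
  refine key.of_injective e ?_ ?_
  · intro a b hab
    exact Subtype.ext ((MulAut.conj g').injective (congrArg Subtype.val hab))
  · have : e.range = ⊤ := by
      rw [eq_top_iff]
      rintro ⟨c, hc⟩ -
      refine ⟨⟨g'⁻¹ * c * g', ?_⟩, Subtype.ext ?_⟩
      · rw [Subgroup.mem_centralizer_singleton_iff] at hc ⊢
        calc g'⁻¹ * c * g' * x = g'⁻¹ * (c * (g' * x * g'⁻¹)) * g' := by group
          _ = _ := by rw [hc]; group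
      · change g' * (g'⁻¹ * c * g') * g'⁻¹ = c
        group
    rw [this]; exact Subgroup.IsSubnormal.top

end groups

section sys
variable {G W Φ ι : Type*} [Group G] [Group W] [MulAction W Φ] {T : TwSys G W Φ ι} [Finite Φ]

/-- Every positive root is conjugate under the twisted Weyl group to a root of some `Φ_J⁺`. -/
theorem exists_smul_inv {r : Φ} (hr : r ∈ T.P) :
    ∃ w ∈ T.W1, ∃ j, ∃ s ∈ invS T.P (T.wJ j), r = w • s := by
  have key : ∀ w ∈ T.W1, ∀ r ∈ invS T.P w, ∃ w ∈ T.W1, ∃ j, ∃ s ∈ invS T.P (T.wJ j), r = w • s := by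
    apply TwSys.W1_induction
    · intro r hr
      exact absurd (by simpa using hr.1) hr.2
    · intro w _ j _ ih r hr
      by_cases hc : T.wJ j • r ∈ T.P
      · obtain ⟨w', hw', k, s, hs, e⟩ := ih (T.wJ j • r)
          ⟨hc, by rw [mul_smul, TwSys.wJ_smul_smul]; exact hr.2⟩
        refine ⟨T.wJ j * w', T.W1.mul_mem (TwSys.wJ_mem j) hw', k, s, hs, ?_⟩
        rw [mul_smul, ← e, TwSys.wJ_smul_smul]
      · exact ⟨1, T.W1.one_mem, j, r, ⟨hr.1, hc⟩, (one_smul _ _).symm⟩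
  obtain ⟨w, hw, hw0⟩ := TwSys.exists_w0_mem (T := T)
  exact key w hw r ⟨hr, hw0 r hr⟩

/-- `U¹` has odd index in the twisted group. -/
theorem odd_index_U [Finite G] (hU : IsPGroup 2 T.U) (hH : Odd (Nat.card T.H)) :
    ¬ 2 ∣ ((T.U ⊓ T.G1).subgroupOf T.G1).index := by
  classical
  have : Finite T.W1 := by
    refine Finite.of_injective (fun w : T.W1 => invS T.P (w : W)) fun a b h => ?_
    exact Subtype.ext (TwSys.eq_of_invS_eq (T := T) h)
  have := Fintype.ofFinite T.W1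
  have h1 := TwSys.card_G1 (T := T)
  have h2 := ((T.U ⊓ T.G1).subgroupOf T.G1).card_mul_index
  rw [Nat.card_congr (Subgroup.subgroupOfEquivOfLe inf_le_right).toEquiv, h1, mul_assoc,
    mul_right_inj' Nat.card_pos.ne'] at h2
  rw [h2, ← even_iff_two_dvd, Nat.not_even_iff_odd]
  refine Odd.mul (hH.of_dvd_nat (Subgroup.card_dvd_of_le inf_le_left)) ?_
  rw [← Finset.add_sum_erase _ _ (Finset.mem_univ 1)]
  refine Odd.add_even ?_ (Finset.even_sum _ fun w hw => ?_)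
  · simp [TwSys.Uw_one]
  · have hw1 : (w : W) ≠ 1 := fun h => (Finset.mem_erase.mp hw).1 (Subtype.ext h)
    obtain ⟨j, hj⟩ := T.desc w w.2 hw1
    obtain ⟨c, hc, hc1, hσ⟩ := TwSys.exists_pos_nontriv (T := T) j
    have hP : IsPGroup 2 ↥(T.Uw w ⊓ T.Fix) := hU.to_le (inf_le_left.trans (TwSys.Uw_le_U _))
    have : Nontrivial ↥(T.Uw w ⊓ T.Fix) :=
      ⟨⟨⟨c, TwSys.Uw_wJ_le hj hc, hσ⟩, 1, fun h => hc1 (congrArg Subtype.val h)⟩⟩
    obtain ⟨k, hk, hk'⟩ := hP.nontrivial_iff_card.mp this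
    rw [hk']
    exact (Nat.even_pow.mpr ⟨even_two, hk.ne'⟩)

/-- The centralizer of the unipotent radical of a proper parabolic subgroup lies in `B`. -/
theorem cent_mem_B {J : Set ι} (hJ : Jᶜ.Nonempty) {V : Subgroup G}
    (hconn : ∀ A : Set ι, A.Nonempty → Aᶜ.Nonempty → ∃ j ∈ A, ∃ k ∉ A,
      ∀ r ∈ invS T.P (T.wJ k), T.wJ j • r ∈ keepS T.P (T.wJ k))
    (hB : ∀ b ∈ T.B, b ∈ T.G1 → b ∈ Subgroup.normalizer (V : Set G))
    (hN : ∀ j ∈ J, ∀ n ∈ T.G1, T.Rep n (T.wJ j) → n ∈ Subgroup.normalizer (V : Set G))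
    (hV : ∀ k ∉ J, ∀ u ∈ T.Uw (T.wJ k), T.σ u = u → u ∈ V)
    {y : G} (hy : y ∈ T.G1) (hc : ∀ v ∈ V, v * y = y * v) : y ∈ T.B := by
  set C : Subgroup G := Subgroup.centralizer (V : Set G) ⊓ T.G1 with hC
  have hconj : ∀ g ∈ T.G1, g ∈ Subgroup.normalizer (V : Set G) → ∀ c ∈ C, g * c * g⁻¹ ∈ C := by
    intro g hg hgn c hc
    refine ⟨fun v hv => ?_, T.G1.mul_mem (T.G1.mul_mem hg hc.2) (T.G1.inv_mem hg)⟩
    have h1 : g⁻¹ * v * g ∈ V := by
      have := (Subgroup.mem_normalizer_iff.mp (Subgroup.inv_mem _ hgn) v).mp hv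
      rwa [inv_inv] at this
    calc v * (g * c * g⁻¹) = g * (g⁻¹ * v * g * c) * g⁻¹ := by group
      _ = _ := by rw [hc.1 _ h1]; group
  let Q : Subgroup G :=
    { carrier := {g | ∃ b ∈ T.B ⊓ T.G1, b * g ∈ C}
      one_mem' := ⟨1, one_mem _, by simp⟩
      mul_mem' := by
        rintro g g' ⟨b, hb, h⟩ ⟨b', hb', h'⟩
        refine ⟨b' * b, Subgroup.mul_mem _ hb' hb, ?_⟩
        have := C.mul_mem (hconj b' hb'.2 (hB b' hb'.1 hb'.2) _ h) h'
        convert this using 1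
        group
      inv_mem' := by
        rintro g ⟨b, hb, h⟩
        have hb' := Subgroup.inv_mem _ hb
        refine ⟨b⁻¹, hb', ?_⟩
        have := hconj b⁻¹ hb'.2 (hB _ hb'.1 hb'.2) _ (C.inv_mem h)
        convert this using 1
        group }
  have hBQ : ∀ b ∈ T.B, b ∈ T.G1 → b ∈ Q := fun b h1 h2 =>
    ⟨b⁻¹, Subgroup.inv_mem _ ⟨h1, h2⟩, by simp⟩
  have hCQ : ∀ c ∈ C, c ∈ Q := fun c hc => ⟨1, one_mem _, by simpa using hc⟩
  have hUQ : ∀ u ∈ T.U, T.σ u = u → u ∈ Q := fun u h1 h2 =>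
    hBQ u (TwSys.U_le_B h1) (TwSys.mem_G1_of_U h1 h2)
  have hQG : ∀ g ∈ Q, g ∈ T.G1 := by
    rintro g ⟨b, hb, h⟩
    simpa using T.G1.mul_mem (T.G1.inv_mem hb.2) h.2
  let K : Set ι := {j | ∃ n ∈ Q, T.Rep n (T.wJ j)}
  have hA : ∀ n ∈ Q, ∀ w j, T.Rep n w → (∀ r ∈ invS T.P (T.wJ j), w • r ∉ T.P) → j ∈ K := by
    intro n hn w j hw hj
    obtain ⟨z, hz, hz1, hσ⟩ := T.nontriv j
    obtain ⟨b, hb, hσb, m, hm, -, v, hv, hσv, e⟩ := TwSys.rank_one hz hz1 hσ
    have h1 : n * z * n⁻¹ ∈ T.U := T.rep_conj hw (fun r hr => by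
      have := hj (T.neg r) ⟨(T.neg_mem r).2 hr.1, by rw [T.smul_neg, T.neg_mem]; exact not_not.2 hr.2⟩
      rwa [T.smul_neg, T.neg_mem, not_not] at this) hz
    have h2 := hUQ _ h1 (TwSys.fix_conj (TwSys.G1_le_Fix (hQG n hn)) hσ)
    have h3 : z ∈ Q := by
      have := Q.mul_mem (Q.mul_mem (Q.inv_mem hn) h2) hn
      convert this using 1
      group
    refine ⟨m, ?_, hm⟩
    have := Q.mul_mem (Q.mul_mem (Q.inv_mem (hUQ b (TwSys.Uw_le_U _ hb) hσb)) h3)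
      (Q.inv_mem (hUQ v (TwSys.Uw_le_U _ hv) hσv))
    convert this using 1
    rw [e]; group
  have hrel : ∀ j ∈ K, ∀ k ∉ J, ∀ g ∈ T.Uw (T.wJ k), T.σ g = g →
      ∃ n b, T.Rep n (T.wJ j) ∧ b ∈ T.B ∧ b * (n * g * n⁻¹) * b⁻¹ = g := by
    rintro j ⟨n, ⟨b, hb, h⟩, hn⟩ k hk g hg hσ
    refine ⟨n, b, hn, hb.1, ?_⟩
    have := h.1 g (hV k hk g hg hσ)
    calc b * (n * g * n⁻¹) * b⁻¹ = (b * n * g) * (b * n)⁻¹ := by group
      _ = g := by rw [← this]; group
  have hKJ : K ⊆ J := by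
    intro j hj
    by_contra hk
    obtain ⟨g, hg, hg1, hσ⟩ := TwSys.exists_pos_nontriv (T := T) j
    obtain ⟨n, b, hn, hb, e⟩ := hrel j hj j hk g hg hσ
    have h1 : n * g * n⁻¹ ∈ T.V := T.rep_conj hn (fun r hr => hr.2) hg
    have h2 : n * g * n⁻¹ ∈ T.B := by
      have := T.B.mul_mem (T.B.mul_mem (T.B.inv_mem hb)
        (TwSys.U_le_B (TwSys.Uw_le_U _ hg))) hb
      convert this using 1
      calc n * g * n⁻¹ = b⁻¹ * (b * (n * g * n⁻¹) * b⁻¹) * b := by group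
        _ = _ := by rw [e]
    have := TwSys.eq_one_of_mem_B_V h2 h1
    exact hg1 (by simpa using this)
  have hK : K = ∅ := by
    by_contra hne
    obtain ⟨j, hj, k, hk, hadj⟩ := hconn K (Set.nonempty_iff_ne_empty.mpr hne)
      (hJ.mono (Set.compl_subset_compl.mpr hKJ))
    by_cases hkJ : k ∈ J
    · obtain ⟨n, ⟨b, hb, h⟩, hn⟩ := hj
      obtain ⟨m, hm, hm1⟩ := TwSys.exists_rep_wJ (T := T) k
      obtain ⟨u, hu, hu1, t, ht, ht1, rfl⟩ := TwSys.B_inf_G1 hb.1 hb.2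
      have hn1 : n ∈ T.G1 := hQG n ⟨_, hb, h⟩
      have h1 := hCQ _ (hconj m hm1 (hN k hkJ m hm1 hm) _ h)
      have hr : T.Rep (t * n * m⁻¹) (T.wJ j * T.wJ k) := by
        simpa using T.rep_mul (T.rep_mul ((T.mem_H t).1 ht) hn) (TwSys.rep_wJ_inv hm)
      have hn2 : t * n * m⁻¹ ∈ T.N ⊓ T.G1 :=
        ⟨TwSys.Rep_mem_N hr, T.G1.mul_mem (T.G1.mul_mem ht1 hn1) (T.G1.inv_mem hm1)⟩
      obtain ⟨u₁, h₁, u₂, h₂, hc⟩ := TwSys.mul_lemma (N₀ := T.N ⊓ T.G1) inf_le_left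
        (inf_le_right.trans TwSys.G1_le_Fix)
        (fun j y hy hy1 hσ => by
          obtain ⟨b, hb, -, m, hm, hm1, v, hv, -, h⟩ := TwSys.rank_one hy hy1 hσ
          exact ⟨b, TwSys.Uw_le_U _ hb, m, ⟨TwSys.Rep_mem_N hm, hm1⟩, v, TwSys.Uw_le_U _ hv, h⟩)
        ⟨TwSys.Rep_mem_N hm, hm1⟩ hm hu (TwSys.G1_le_Fix hu1) hn2
      have h2 : ∀ z, m * u * (t * n * m⁻¹) = u₁ * z * u₂ → z ∈ Q := by
        intro z hz
        have := Q.mul_mem (Q.mul_mem (Q.inv_mem (hUQ u₁ h₁.1 h₁.2)) h1) (Q.inv_mem (hUQ u₂ h₂.1 h₂.2))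
        convert this using 1
        calc z = u₁⁻¹ * (u₁ * z * u₂) * u₂⁻¹ := by group
          _ = _ := by rw [← hz]; group
      have h3 : ∀ r ∈ invS T.P (T.wJ k),
          T.wJ j • T.neg (T.wJ k • r) ∈ keepS T.P (T.wJ k) := fun r hr =>
        hadj _ (TwSys.neg_wJ_mem hr)
      rcases hc with hc | ⟨h', hh', hc⟩
      · refine hk (hA _ (h2 _ hc) _ k (T.rep_mul hm hr) fun r hr => ?_)
        have := (h3 r hr).2
        rwa [T.smul_neg, T.smul_neg, T.neg_mem, ← mul_smul (T.wJ j), ← mul_smul] at this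
      · refine hk (hA _ (h2 _ hc) _ k (T.rep_mul ((T.mem_H _).1 hh'.1) hr) fun r hr => ?_)
        have := (h3 r hr).1
        rwa [T.smul_neg, T.neg_mem, ← mul_smul, ← one_mul (T.wJ j * T.wJ k)] at this
    · obtain ⟨g, hg, hg1, hσ⟩ := TwSys.exists_pos_nontriv (T := T) k
      obtain ⟨n, b, hn, hb, e⟩ := hrel j hj k hkJ g hg hσ
      obtain ⟨u, hu, t, ht, rfl⟩ := TwSys.mem_B_iff.1 hb
      have h1 := T.normR k u hu _ (TwSys.H_conj_XS ht (T.rep_conj hn hadj hg))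
      refine hg1 (TwSys.eq_one_of_keep_inv ?_ hg)
      convert h1 using 1
      refine e.symm.trans ?_
      group
  obtain ⟨u, hu, hu1, n, w, hn, -, hw, v, hv, hv1, rfl⟩ := TwSys.bruhat_G1 hy
  have hw1 : w = 1 := by
    by_contra hw1
    obtain ⟨j, hj⟩ := T.desc w hw hw1
    have h1 : n ∈ Q := by
      have := Q.mul_mem (Q.mul_mem (Q.inv_mem (hBQ u (TwSys.U_le_B hu) hu1))
        (hCQ _ ⟨fun v hv => hc v hv, hy⟩)) (Q.inv_mem (hBQ v (TwSys.U_le_B (TwSys.Uw_le_U _ hv)) hv1))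
      convert this using 1
      group
    have := hA n h1 w j hn hj
    rw [hK] at this
    exact this
  subst hw1
  exact T.B.mul_mem (T.B.mul_mem (TwSys.U_le_B hu) (TwSys.H_le_B ((T.mem_H n).2 hn)))
    (TwSys.U_le_B (TwSys.Uw_le_U _ hv))

end sys

end CL.Even
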