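import Cfsg.Agent.Base
import Cfsg.Agent.Chev.TwMk
import Cfsg.Agent.Chev.TwTor
import Cfsg.Agent.Chev.RootsBasic

/-! Real gradings of the adjoint module of a Chevalley group and the subgroups `P_f`, `V_f`. -/

set_option autoImplicit false
set_option linter.unusedSectionVars false

namespace CL.Even

open Cfsg Cfsg.Lie Cfsg.Lie.ChevalleyDatum CL.ChevM CL.Weyl CL.Cox CL.Tw CL.Chev Matrix

section analysis
variable {ι : Type*} [Fintype ι]

theorem exists_min_sq (S : Set (ι → ℝ)) (hS : IsClosed S) (hne : S.Nonempty) :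
    ∃ f ∈ S, ∀ g ∈ S, ∑ r, f r ^ 2 ≤ ∑ r, g r ^ 2 := by
  obtain ⟨f0, hf0⟩ := hne
  have hc : Continuous fun g : ι → ℝ => ∑ r, g r ^ 2 := by fun_prop
  have hK : IsCompact (S ∩ {g | ∑ r, g r ^ 2 ≤ ∑ r, f0 r ^ 2}) := by
    refine Metric.isCompact_of_isClosed_isBounded (hS.inter (isClosed_le hc continuous_const))
      ((Metric.isBounded_closedBall (x := 0) (r := √(∑ r, f0 r ^ 2))).subset fun g hg => ?_)
    rw [mem_closedBall_zero_iff, pi_norm_le_iff_of_nonneg (Real.sqrt_nonneg _)]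
    intro i
    refine Real.abs_le_sqrt (le_trans ?_ hg.2)
    exact Finset.single_le_sum (f := fun r => g r ^ 2) (fun _ _ => sq_nonneg _) (Finset.mem_univ i)
  obtain ⟨f, hf, hmin⟩ := hK.exists_isMinOn ⟨f0, hf0, by simp⟩ hc.continuousOn
  refine ⟨f, hf.1, fun g hg => ?_⟩
  by_cases h : ∑ r, g r ^ 2 ≤ ∑ r, f0 r ^ 2
  · exact hmin ⟨hg, h⟩
  · exact le_trans hf.2 (not_le.1 h).le

theorem eq_of_mid {f g : ι → ℝ} (h1 : ∑ r, g r ^ 2 = ∑ r, f r ^ 2)
    (h2 : ∑ r, f r ^ 2 ≤ ∑ r, ((2⁻¹ : ℝ) • (f + g)) r ^ 2) : g = f := by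
  have h3 : ∑ r, (g r - f r) ^ 2 =
      2 * ∑ r, f r ^ 2 + 2 * ∑ r, g r ^ 2 - 4 * ∑ r, ((2⁻¹ : ℝ) • (f + g)) r ^ 2 := by
    simp only [Finset.mul_sum, ← Finset.sum_add_distrib, ← Finset.sum_sub_distrib]
    exact Finset.sum_congr rfl fun r _ => by simp only [Pi.smul_apply, Pi.add_apply, smul_eq_mul]; ring
  have h4 : ∑ r, (g r - f r) ^ 2 = 0 :=
    le_antisymm (by linarith) (Finset.sum_nonneg fun _ _ => sq_nonneg _)
  rw [Finset.sum_eq_zero_iff_of_nonneg fun _ _ => sq_nonneg _] at h4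
  funext r
  exact sub_eq_zero.1 (pow_eq_zero_iff two_ne_zero |>.1 (h4 r (Finset.mem_univ r)))

theorem exists_eps (f : ι → ℝ) : ∃ ε : ℝ, 0 < ε ∧ ∀ r, 0 < f r → ε ≤ f r := by
  classical
  by_cases h : ∃ r, 0 < f r
  · obtain ⟨r0, h0⟩ := h
    obtain ⟨r, hr, hmin⟩ := (Finset.univ.filter fun r => 0 < f r).exists_min_image f ⟨r0, by simpa⟩
    exact ⟨f r, by simpa using hr, fun s hs => hmin s (by simpa)⟩
  · exact ⟨1, one_pos, fun r hr => absurd ⟨r, hr⟩ h⟩

end analysis

section deg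
variable {I K : Type*} [Fintype I] [DecidableEq I] [Field K]

/-- The matrix `M` raises the degree by at least `a`. -/
def Dg (a : ℝ) (f g : I → ℝ) (M : Matrix I I K) : Prop := ∀ i j, M i j ≠ 0 → g j + a ≤ f i

theorem Dg.mul {a b : ℝ} {f g h : I → ℝ} {M N : Matrix I I K} (h1 : Dg a f g M) (h2 : Dg b g h N) :
    Dg (a + b) f h (M * N) := by
  intro i j hij
  rw [mul_apply] at hij
  obtain ⟨k, -, hk⟩ := Finset.exists_ne_zero_of_sum_ne_zero hij
  have := h1 i k (left_ne_zero_of_mul hk)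
  have := h2 k j (right_ne_zero_of_mul hk)
  linarith

theorem Dg.mono {a b : ℝ} {f g : I → ℝ} {M : Matrix I I K} (h : Dg a f g M) (hb : b ≤ a) : Dg b f g M :=
  fun i j hij => by have := h i j hij; linarith

theorem Dg.add {a : ℝ} {f g : I → ℝ} {M N : Matrix I I K} (h1 : Dg a f g M) (h2 : Dg a f g N) :
    Dg a f g (M + N) := by
  intro i j hij
  by_cases h : M i j = 0
  · exact h2 i j (by simpa [h] using hij)
  · exact h1 i j h

theorem dg_one (f : I → ℝ) : Dg 0 f f (1 : Matrix I I K) := by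
  intro i j hij
  obtain rfl : i = j := by_contra fun h => hij (one_apply_ne h)
  simp

theorem Dg.eq_zero {a : ℝ} {f : I → ℝ} {M : Matrix I I K} (h : Dg a f f M) (ha : ∀ i j, f i < f j + a) :
    M = 0 := by
  ext i j
  by_contra hij
  exact absurd (h i j hij) (not_le.2 (ha i j))

theorem Dg.mid {a : ℝ} {f g : I → ℝ} {M : Matrix I I K} (h1 : Dg a f f M) (h2 : Dg a g g M) :
    Dg a ((2⁻¹ : ℝ) • (f + g)) ((2⁻¹ : ℝ) • (f + g)) M := by
  intro i j hij
  have := h1 i j hij
  have := h2 i j hij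
  simp only [Pi.smul_apply, Pi.add_apply, smul_eq_mul]
  linarith

variable {G : Type*} [Group G] (m : G →* Matrix I I K)

theorem Dg.conj {m : G →* Matrix I I K} {a : ℝ} {f g : I → ℝ} {n x : G} (h1 : Dg 0 f g (m n))
    (h2 : Dg 0 g f (m n⁻¹)) (h : Dg a g g (m x - 1)) : Dg a f f (m (n * x * n⁻¹) - 1) := by
  have := (h1.mul h).mul h2
  rwa [zero_add, add_zero, mul_sub, sub_mul, mul_one, ← map_mul, ← map_mul, ← map_mul, mul_inv_cancel,
    map_one] at this

/-- A submonoid of a finite group as a subgroup. -/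
def subgroupOfFinite [Finite G] (S : Submonoid G) : Subgroup G where
  toSubmonoid := S
  inv_mem' {g} hg := by
    have : g⁻¹ = g ^ (orderOf g - 1) := by
      refine inv_eq_of_mul_eq_one_right ?_
      rw [← pow_succ', Nat.sub_add_cancel (orderOf_pos g), pow_orderOf_eq_one]
    rw [this]; exact S.pow_mem hg _

variable [Finite G]

/-- The stabilizer of the filtration. -/
def Pf (f : I → ℝ) : Subgroup G := subgroupOfFinite
  { carrier := {g | Dg 0 f f (m g)}
    mul_mem' := fun {a b} ha hb => by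
      have := Dg.mul ha hb
      rwa [add_zero, ← map_mul] at this
    one_mem' := by
      change Dg 0 f f (m 1)
      rw [map_one]; exact dg_one f }

theorem mem_Pf {f : I → ℝ} {g : G} : g ∈ Pf m f ↔ Dg 0 f f (m g) := Iff.rfl

/-- The elements acting trivially on the factors of the filtration. -/
def Vf (f : I → ℝ) {a : ℝ} (ha : 0 < a) : Subgroup G := subgroupOfFinite
  { carrier := {g | Dg a f f (m g - 1)}
    mul_mem' := fun {x y} hx hy => by
      have := (((Dg.mul hx hy).mono (b := a) (by linarith)).add hx).add hy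
      change Dg a f f (m (x * y) - 1)
      convert this using 1
      rw [map_mul]; noncomm_ring
    one_mem' := by
      intro i j h
      simp at h }

theorem mem_Vf {f : I → ℝ} {a : ℝ} {ha : 0 < a} {g : G} : g ∈ Vf m f ha ↔ Dg a f f (m g - 1) := Iff.rfl

theorem conj_mem_Vf {f : I → ℝ} {a : ℝ} {ha : 0 < a} {p g : G} (hp : p ∈ Pf m f) (hg : g ∈ Vf m f ha) :
    p * g * p⁻¹ ∈ Vf m f ha := Dg.conj hp ((Pf m f).inv_mem hp) hg

theorem isPGroup_Vf [CharP K 2] (hm : Function.Injective m) (f : I → ℝ) {a : ℝ} (ha : 0 < a) :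
    IsPGroup 2 (Vf m f ha) := by
  intro g
  have key : ∀ n : ℕ, Dg (2 ^ n * a) f f (m ((g : G) ^ 2 ^ n) - 1) := by
    intro n
    induction n with
    | zero => simpa using (mem_Vf m).1 g.2
    | succ n ih =>
      have := ih.mul ih
      have h2 : (2 : Matrix I I K) = 0 := by
        ext i j
        simp [ofNat_apply, CharTwo.two_eq_zero]
      convert this using 1
      · ring
      · rw [pow_succ, pow_mul, map_pow]
        generalize m ((g : G) ^ 2 ^ n) = A
        have : (A - 1) * (A - 1) = A ^ 2 - 1 + 2 * (1 - A) := by noncomm_ring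
        rw [this, h2, zero_mul, add_zero]
  obtain ⟨n, hn⟩ := pow_unbounded_of_one_lt ((2 * ‖f‖) / a) (one_lt_two (α := ℝ))
  refine ⟨n, Subtype.ext (hm ?_)⟩
  rw [div_lt_iff₀ ha] at hn
  have := (key n).eq_zero fun i j => by
    have h1 := abs_le.1 ((Real.norm_eq_abs _).symm.le.trans (norm_le_pi_norm f i))
    have h2 := abs_le.1 ((Real.norm_eq_abs _).symm.le.trans (norm_le_pi_norm f j))
    linarith [h1.2, h2.1]
  rw [sub_eq_zero] at this
  simpa using this

end deg

variable {D : ChevalleyDatum}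

/-- The degree of a basis vector. -/
def dg (f : Fin D.nroots → ℝ) : D.Idx → ℝ := Sum.elim (fun _ => 0) f

theorem dg_mid (f g : Fin D.nroots → ℝ) : dg ((2⁻¹ : ℝ) • (f + g)) = (2⁻¹ : ℝ) • (dg f + dg g) := by
  funext i
  rcases i with i | i <;> simp [dg, mul_add]

theorem continuous_dg (i : D.Idx) : Continuous fun f : Fin D.nroots → ℝ => dg f i := by
  rcases i with i | i
  · exact continuous_const
  · exact continuous_apply i

theorem isClosed_Dg {K : Type*} [Field K] (a : ℝ) (M : Matrix D.Idx D.Idx K) :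
    IsClosed {f : Fin D.nroots → ℝ | Dg a (dg f) (dg f) M} := by
  simp only [Dg, Set.ofPred_forall]
  exact isClosed_iInter fun i => isClosed_iInter fun j => isClosed_iInter fun _ =>
    isClosed_le ((continuous_dg j).add continuous_const) (continuous_dg i)

variable (D) in
/-- The function of the roots with given values on the fundamental roots. -/
def lin (a : Fin D.rank → ℝ) : (Fin D.rank → ℤ) →+ ℝ where
  toFun v := ∑ i, v i * a i
  map_zero' := by simp
  map_add' u v := by simp [add_mul, Finset.sum_add_distrib]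

theorem lin_apply (a : Fin D.rank → ℝ) (v : Fin D.rank → ℤ) : lin D a v = ∑ i, v i * a i := rfl

/-- Additive functions of the roots. -/
def IsLin (f : Fin D.nroots → ℝ) : Prop := ∃ L : (Fin D.rank → ℤ) →+ ℝ, ∀ r : Fin D.nroots, f r = L (rc D r)

variable [RootOK D] [WeylOK D]

theorem IsLin.eq_sum {f : Fin D.nroots → ℝ} (h : IsLin f) (r : Fin D.nroots) :
    f r = ∑ i, rc D r i * f (simpleF D i) := by
  obtain ⟨L, hL⟩ := h
  simp only [hL, rc_simpleF]
  conv_lhs => rw [← Finset.univ_sum_single (rc D r), map_sum]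
  refine Finset.sum_congr rfl fun i _ => ?_
  rw [← zsmul_eq_mul, ← map_zsmul, ← Pi.single_smul, smul_eq_mul, mul_one]

theorem IsLin.neg {f : Fin D.nroots → ℝ} (h : IsLin f) (r : Fin D.nroots) : f (negF D r) = -f r := by
  obtain ⟨L, hL⟩ := h
  rw [hL, hL, rc_negF, map_neg]

theorem IsLin.comp {f : Fin D.nroots → ℝ} (h : IsLin f) (w : W D) : IsLin fun r => f (w • r) := by
  obtain ⟨L, hL⟩ := h
  exact ⟨L.comp (rho D w).toAddMonoidHom, fun r => by beta_reduce; rw [hL, rc_smul]; rfl⟩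

theorem IsLin.s_smul {f : Fin D.nroots → ℝ} (h : IsLin f) (i : Fin D.rank) (r : Fin D.nroots) :
    f (s D i • r) = f r - D.cartan i r * f (simpleF D i) := by
  obtain ⟨L, hL⟩ := h
  rw [hL, hL, hL, rc_s_smul, map_sub, map_zsmul, rc_simpleF, zsmul_eq_mul]

theorem IsLin.nonneg {f : Fin D.nroots → ℝ} (h : IsLin f) {J : Set (Fin D.rank)}
    (hJ : ∀ i ∈ J, 0 ≤ f (simpleF D i)) {r : Fin D.nroots} (hr : (Φ D).Pos r) (hr' : (Φ D).InSub J r) :
    0 ≤ f r := by
  rw [h.eq_sum]
  refine Finset.sum_nonneg fun i _ => ?_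
  by_cases hi : i ∈ J
  · exact mul_nonneg (by exact_mod_cast (pos_iff_rc r).1 hr i) (hJ i hi)
  · rw [(inSub_iff_rc r).1 hr' i hi]; simp

theorem IsLin.pos {f : Fin D.nroots → ℝ} (h : IsLin f) {J : Set (Fin D.rank)}
    (hJ : ∀ i ∈ J, 0 < f (simpleF D i)) {r : Fin D.nroots} (hr : (Φ D).Pos r) (hr' : (Φ D).InSub J r) :
    0 < f r := by
  rw [h.eq_sum]
  obtain ⟨k, hk⟩ := exists_rc_pos hr
  have hkJ : k ∈ J := by_contra fun hc => hk.ne' ((inSub_iff_rc r).1 hr' k hc)
  refine Finset.sum_pos' (fun i _ => ?_) ⟨k, Finset.mem_univ _, mul_pos (by exact_mod_cast hk) (hJ k hkJ)⟩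
  by_cases hi : i ∈ J
  · exact mul_nonneg (by exact_mod_cast (pos_iff_rc r).1 hr i) (hJ i hi).le
  · rw [(inSub_iff_rc r).1 hr' i hi]; simp

theorem IsLin.neg' {f : Fin D.nroots → ℝ} (h : IsLin f) : IsLin (-f) := by
  obtain ⟨L, hL⟩ := h
  exact ⟨-L, fun r => by simp [hL]⟩

theorem IsLin.parab {f : Fin D.nroots → ℝ} (h : IsLin f) {J : Set (Fin D.rank)}
    (hJ : ∀ i ∈ J, f (simpleF D i) = 0) {w : W D} (hw : w ∈ parab (cs D) J) (r : Fin D.nroots) :
    f (w • r) = f r := by
  refine parab_induction_left (cs D) (p := fun w => f (w • r) = f r) (by simp) ?_ hw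
  intro j hj w _ ih
  rw [mul_smul, h.s_smul, hJ j hj, mul_zero, sub_zero, ih]

variable {η : ℕ → ℕ → ℤ} (C : Core D η) {K : Type*} [Field K]

include C in
theorem x_entry_real {f : Fin D.nroots → ℝ} (hf : IsLin f) (r : Fin D.nroots) (t : K) (i j : D.Idx)
    (h : D.x K r t i j ≠ (1 : Matrix D.Idx D.Idx K) i j) :
    ∃ k : ℕ, 0 < k ∧ dg f i = dg f j + k * f r := by
  rw [x_of_lt r.2] at h
  rcases j with j | s
  · rcases i with i | u
    · exact absurd (by simp [xMat, one_apply]) h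
    · by_cases hu : u = r
      · exact ⟨1, one_pos, by simp [dg, hu]⟩
      · exact absurd (by simp [xMat, hu]) h
  · by_cases h1 : s = r
    · subst h1
      rcases i with i | u
      · exact absurd (by simp [xMat]) h
      · exact absurd (by simp [xMat, one_apply]) h
    by_cases h2 : (s : ℕ) = D.neg r
    · have h3 : f s = -f r := by rw [← hf.neg, show s = negF D r from Fin.ext h2]
      have h2' : (s : ℕ) = D.negIdx.getD r 0 := h2
      rcases i with i | u
      · exact ⟨1, one_pos, by simp [dg, h3]⟩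
      · by_cases hu : u = r
        · exact ⟨2, two_pos, by simp [dg, h3, hu]; ring⟩
        · refine absurd ?_ h
          simp only [xMat, of_apply, Fin.eta, if_neg h1, if_pos h2', if_neg hu, one_apply, Sum.inr.injEq]
    · have h2' : ¬ (s : ℕ) = D.negIdx.getD r 0 := h2
      rcases i with i | u
      · refine absurd ?_ h
        simp only [xMat, of_apply, Fin.eta, if_neg h1, if_neg h2', one_apply]
        simp
      · simp only [xMat, of_apply, Fin.eta, if_neg h1, if_neg h2', one_apply, Sum.inr.injEq, C.tab.uniq r s u,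
          ne_eq, add_eq_left] at h
        obtain ⟨q, hq⟩ : ∃ q, q ∈ ((D.chainEntry r s).zipIdx).filter (fun q => decide (q.1.1 = (u : ℕ))) := by
          by_contra hc
          rw [List.eq_nil_iff_forall_not_mem.2 (not_exists.1 hc)] at h
          exact h rfl
        rw [List.mem_filter, decide_eq_true_iff] at hq
        refine ⟨q.2 + 1, by omega, ?_⟩
        have := (chainEntry_rc r.2 hq.1).2
        rw [hq.2] at this
        obtain ⟨L, hL⟩ := hf
        simp only [dg, Sum.elim_inr, hL]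
        rw [this, map_add, map_zsmul, zsmul_eq_mul, add_comm, Int.cast_natCast]

theorem dg_xG {f : Fin D.nroots → ℝ} (hf : IsLin f) {a : ℝ} (ha : 0 ≤ a) {r : Fin D.nroots} (hr : a ≤ f r)
    (t : K) : Dg a (dg f) (dg f) (mat (xG C r t) - 1) := by
  intro i j hij
  obtain ⟨k, hk, e⟩ := x_entry_real C hf r t i j (by rwa [Matrix.sub_apply, sub_ne_zero] at hij)
  have : (1 : ℝ) ≤ k := by exact_mod_cast hk
  nlinarith

theorem dg_tor (f : D.Idx → ℝ) (c : Fin D.rank → Kˣ) : Dg 0 f f (mat (tor C c)) := by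
  intro i j hij
  obtain rfl : i = j := by_contra fun h => hij (by rw [mat_tor, diagM, diagonal_apply_ne _ h])
  simp

theorem dg_rep {n : ↥(D.group K)} {w : W D} (hn : Rep C n w) (f : Fin D.nroots → ℝ) :
    Dg 0 (dg f) (dg fun r => f (w • r)) (mat n) := by
  obtain ⟨_, ⟨c, rfl⟩, l, rfl, rfl⟩ := hn
  rw [map_mul, ← add_zero (0 : ℝ)]
  refine (dg_tor C _ c).mul ?_
  induction l generalizing f with
  | nil =>
    simp only [nW_nil, map_one, CoxeterSystem.wordProd_nil, one_smul]
    exact dg_one _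
  | cons i l ih =>
    rw [nW_cons, map_mul, ← add_zero (0 : ℝ), CoxeterSystem.wordProd_cons]
    simp only [mul_smul]
    refine Dg.mul ?_ (ih fun r => f (s D i • r))
    rw [nS, mat_nG, C.nMat_simple_one i.2]
    rintro (u | u) (v | v) h
    · simp [dg]
    · simp [nuMat] at h
    · simp [nuMat] at h
    · have : u = s D i • v := Fin.ext (by
        rw [val_s_smul]; by_contra hc; exact h (by simp [nuMat, hc]))
      simp [dg, this]

theorem dg_rep_inv {n : ↥(D.group K)} {w : W D} (hn : Rep C n w) (f : Fin D.nroots → ℝ) :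
    Dg 0 (dg fun r => f (w • r)) (dg f) (mat n⁻¹) := by
  simpa using dg_rep C hn.inv fun r => f (w • r)

variable [Finite K]

theorem XSg_le_Vf {f : Fin D.nroots → ℝ} (hf : IsLin f) {a : ℝ} (ha : 0 < a) {S : Set (Fin D.nroots)}
    (hS : ∀ r ∈ S, a ≤ f r) : XSg C K S ≤ Vf mat (dg f) ha :=
  (XSg_le_iff C).2 fun r hr t => dg_xG C hf ha.le (hS r hr) t

theorem XSg_le_Pf {f : Fin D.nroots → ℝ} (hf : IsLin f) {S : Set (Fin D.nroots)}
    (hS : ∀ r ∈ S, 0 ≤ f r) : XSg C K S ≤ Pf mat (dg f) :=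
  (XSg_le_iff C).2 fun r hr t => by
    have := (dg_xG C hf le_rfl (hS r hr) t).add (dg_one _)
    rwa [sub_add_cancel] at this

theorem rep_mem_Pf {n : ↥(D.group K)} {w : W D} (hn : Rep C n w) {f : Fin D.nroots → ℝ}
    (h : (fun r => f (w • r)) = f) : n ∈ Pf mat (dg f) := by
  have := dg_rep C hn f
  rwa [h] at this

include C in
theorem isPGroup_U [CharP K 2] : IsPGroup 2 (XSg C K (PP D)) := by
  have hf : IsLin fun r : Fin D.nroots => (ht D (rc D r) : ℝ) :=
    ⟨(Int.castAddHom ℝ).comp (ht D), fun _ => rfl⟩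
  refine (isPGroup_Vf mat mat_injective _ one_pos).to_le (XSg_le_Vf C hf one_pos fun r hr => ?_)
  exact_mod_cast (pos_iff_ht r).1 hr

end CL.Even
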