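import Cfsg.Agent.Base
import Cfsg.Agent.Even.KempfAbs
import Cfsg.Agent.Even.KempfDeg

/-! Centralizers of involutions in (twisted) Chevalley groups of characteristic two are of characteristic two. -/

set_option autoImplicit false
set_option linter.unusedSectionVars false

namespace CL.Even

open Cfsg Cfsg.Lie Cfsg.Lie.ChevalleyDatum CL.ChevM CL.Weyl CL.Cox CL.Tw CL.Chev Matrix

variable {D : ChevalleyDatum} [RootOK D] [WeylOK D]

/-- A space of additive functions of the roots adapted to the symmetry `τ`. -/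
structure GoodE (τ : DiagAut (Φ D)) (E : Submodule ℝ (Fin D.nroots → ℝ)) : Prop where
  lin : ∀ f ∈ E, IsLin f
  inv : ∀ f ∈ E, ∀ w ∈ τ.fixed, (fun r => f (w • r)) ∈ E
  pos : ∃ f ∈ E, ∀ r, (Φ D).Pos r → 0 < f r
  sgn : ∀ f ∈ E, ∀ i, 0 < f (simpleF D (τ.π i)) ↔ 0 < f (simpleF D i)

theorem exists_goodE (τ : DiagAut (Φ D)) (c : Fin D.nroots → ℝ) (hc : ∀ r, 0 < c r)
    (hcW : ∀ i r, c (s D i • r) = c r) (a : Fin D.rank → ℝ) (ha : ∀ i, 0 < a i)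
    (hρ : ∀ r : Fin D.nroots, lin D a (rc D (τ.ρ r)) = c r * lin D a (rc D r)) : ∃ E, GoodE τ E := by
  have hW : ∀ (w : W D) r, c (w • r) = c r := by
    intro w
    induction w using (cs D).simple_induction_left with
    | one => simp
    | mul_simple_left w i ih => intro r; rw [mul_smul, hcW, ih]
  refine ⟨{ carrier := {f | IsLin f ∧ ∀ r, f (τ.ρ r) = c r * f r}
            add_mem' := ?_, zero_mem' := ⟨⟨0, fun _ => rfl⟩, by simp⟩, smul_mem' := ?_ }, fun f hf => hf.1,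
    fun f hf w hw => ⟨hf.1.comp w, fun r => ?_⟩, ⟨fun r => lin D a (rc D r), ⟨⟨_, fun _ => rfl⟩, hρ⟩, ?_⟩,
    fun f hf i => ?_⟩
  · rintro f g ⟨⟨L, hL⟩, h⟩ ⟨⟨L', hL'⟩, h'⟩
    exact ⟨⟨L + L', fun r => by simp [hL, hL']⟩, fun r => by simp [h, h', mul_add]⟩
  · rintro t f ⟨⟨L, hL⟩, h⟩
    exact ⟨⟨t • L, fun r => by simp [hL]⟩, fun r => by simp [h]; ring⟩
  · beta_reduce; rw [hw, hf.2, hW]
  · intro r hr
    refine IsLin.pos (f := fun r => lin D a (rc D r)) ⟨_, fun _ => rfl⟩ (J := Set.univ) (fun i _ => ?_) hr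
      ((Φ D).inSub_univ r)
    simp [rc_simpleF, lin_apply, Pi.single_apply, ha]
  · rw [← Φ_simple, ← τ.ρ_simple, hf.2, mul_pos_iff_of_pos_left (hc _), Φ_simple]

namespace GoodE

variable {τ : DiagAut (Φ D)} {E : Submodule ℝ (Fin D.nroots → ℝ)} (hE : GoodE τ E)
include hE

theorem pos_iff {f : Fin D.nroots → ℝ} (hf : f ∈ E) {i j : Fin D.rank} (h : j ∈ τ.orb i) :
    0 < f (simpleF D j) ↔ 0 < f (simpleF D i) := by
  obtain ⟨n, rfl⟩ := Equiv.Perm.SameCycle.exists_nat_pow_eq h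
  clear h
  induction n with
  | zero => simp
  | succ n ih => rw [pow_succ', Equiv.Perm.mul_apply, hE.sgn f hf, ih]

theorem neg_iff {f : Fin D.nroots → ℝ} (hf : f ∈ E) {i j : Fin D.rank} (h : j ∈ τ.orb i) :
    f (simpleF D j) < 0 ↔ f (simpleF D i) < 0 := by
  simpa using hE.pos_iff (E.neg_mem hf) h

theorem pos_of_pos {f : Fin D.nroots → ℝ} (hf : f ∈ E) {i : Fin D.rank} {r t : Fin D.nroots}
    (hr : (Φ D).Pos r ∧ (Φ D).InSub (τ.orb i) r) (ht : (Φ D).Pos t ∧ (Φ D).InSub (τ.orb i) t) (h : 0 < f r) :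
    0 < f t := by
  refine (hE.lin f hf).pos (fun j hj => ?_) ht.1 ht.2
  rw [hE.pos_iff hf hj]
  by_contra hc
  have := (hE.lin f hf).neg'.nonneg (J := τ.orb i) (fun k hk => by
    simpa using not_lt.1 (mt (hE.pos_iff hf hk).1 hc)) hr.1 hr.2
  exact absurd h (not_lt.2 (by simpa using this))

theorem exists_dominant {f : Fin D.nroots → ℝ} (hf : f ∈ E) :
    ∃ w ∈ τ.fixed, ∀ r, (Φ D).Pos r → 0 ≤ f (w • r) := by
  induction hn : {r | (Φ D).Pos r ∧ f r < 0}.ncard using Nat.strong_induction_on generalizing f with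
  | _ n ih =>
    by_cases h : ∀ i, 0 ≤ f (simpleF D i)
    · exact ⟨1, one_mem _, fun r hr => by
        simpa using (hE.lin f hf).nonneg (J := Set.univ) (fun i _ => h i) hr ((Φ D).inSub_univ r)⟩
    push Not at h
    obtain ⟨i, hi⟩ := h
    have hw := τ.w0_orb_mem_fixed i
    suffices hlt : {r | (Φ D).Pos r ∧ f ((Φ D).w0 (τ.orb i) • r) < 0}.ncard < n by
      obtain ⟨w, hw', h⟩ := ih _ hlt (hE.inv f hf _ hw) rfl
      exact ⟨_, mul_mem hw hw', fun r hr => by simpa [mul_smul] using h r hr⟩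
    rw [← hn, ← Set.ncard_image_of_injective _ (MulAction.injective ((Φ D).w0 (τ.orb i)))]
    have key : ∀ r, (Φ D).Pos r → f ((Φ D).w0 (τ.orb i) • r) < 0 → ¬ (Φ D).InSub (τ.orb i) r := by
      intro r hr h1 h2
      have h3 := (hE.lin f hf).neg'.pos (J := τ.orb i) (r := negF D ((Φ D).w0 (τ.orb i) • r))
        (fun k hk => by simpa using (hE.neg_iff hf hk).2 hi)
        (((Φ D).pos_neg_iff _).2 ((Φ D).not_pos_w0_smul hr h2))
        ((Φ D).inSub_neg_iff.2 (((Φ D).inSub_smul_iff ((Φ D).w0_mem _)).2 h2))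
      rw [Pi.neg_apply, (hE.lin f hf).neg] at h3
      linarith
    refine Set.ncard_lt_ncard ⟨?_, fun hc => ?_⟩
    · rintro _ ⟨r, hr, rfl⟩
      exact ⟨(Φ D).pos_smul_of_not_inSub ((Φ D).w0_mem _) hr.1 (key r hr.1 hr.2), hr.2⟩
    · obtain ⟨r, hr, e⟩ := hc (And.intro ((Φ D).pos_simple i) hi)
      refine key r hr.1 hr.2 (((Φ D).inSub_smul_iff ((Φ D).w0_mem (τ.orb i))).1 ?_)
      rw [show (Φ D).w0 (τ.orb i) • r = (Φ D).simple i from e]
      exact (Φ D).inSub_simple_iff.2 (τ.self_mem_orb i)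

end GoodE

theorem conn_nodes (S : Set (Fin D.rank)) (h1 : S.Nonempty) (h2 : Sᶜ.Nonempty) :
    ∃ i ∈ S, ∃ j ∉ S, D.cartan i (D.simple j) ≠ 0 := by
  classical
  obtain ⟨a, ha⟩ := h1
  obtain ⟨b, hb⟩ := h2
  have key : ∀ i : Fin D.rank, (Nat.ofBits fun i => decide (i ∈ S)).testBit i = decide (i ∈ S) := fun i =>
    Nat.testBit_ofBits_lt _ i i.2
  obtain ⟨i, hi, j, hj, h3, h4, h5⟩ := RootOK.conn (D := D) _ (Nat.ofBits_lt_two_pow fun i => decide (i ∈ S))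
    (fun h => by simpa [h, ha] using key a) (fun h => by
      have := key b
      rw [Nat.eq_sub_of_add_eq h, Nat.testBit_two_pow_sub_one] at this
      exact hb (by simpa using this))
  exact ⟨⟨i, hi⟩, by simpa using (key ⟨i, hi⟩).symm.trans h3, ⟨j, hj⟩, by simpa using (key ⟨j, hj⟩).symm.trans h4,
    h5⟩

theorem w0_smul_ne {J : Set (Fin D.rank)} {i j : Fin D.rank} (hi : i ∈ J) (hj : j ∉ J)
    (h : D.cartan i (D.simple j) ≠ 0) : (Φ D).w0 J • (Φ D).simple j ≠ (Φ D).simple j := by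
  intro e
  have hA : ∀ k ∈ J, D.cartan k (D.simple j) ≤ 0 := fun k hk =>
    ((Φ D).cartan.2 j k (by rintro rfl; exact hj hk)).nonpos.1
  have h1 := (Φ D).pair_smul ((Φ D).w0 J) ((Φ D).simple j) ((Φ D).simple i)
  have hi' := (Φ D).inSub_simple_iff.2 hi
  have h2 := ((Φ D).not_pos_iff _).1 ((Φ D).not_pos_w0_smul ((Φ D).pos_simple i) hi')
  have h3 := ((Φ D).inSub_smul_iff ((Φ D).w0_mem J)).2 hi'
  rw [e, (Φ D).pair_simple_right, Φ_pair] at h1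
  refine h (le_antisymm (hA i hi) (le_of_le_of_eq (Finset.sum_nonneg fun k _ => ?_) h1))
  by_cases hk : k ∈ J
  · exact mul_nonneg_of_nonpos_of_nonpos (hA k hk) (h2 k)
  · exact (mul_eq_zero_of_right _ (h3 k hk)).ge

variable [CoefOK D] {η : ℕ → ℕ → ℤ} {C : Core D η} {K : Type*} [Field K] {ι : Type*} (T : TwData C K ι)

theorem tw_invS (j : ι) :
    invS T.sys.P (T.sys.wJ j) = {r | (Φ D).Pos r ∧ (Φ D).InSub (T.τ.orb (T.rep j)) r} := invS_w0 _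

theorem tw_conn (A : Set ι) (h1 : A.Nonempty) (h2 : Aᶜ.Nonempty) : ∃ j ∈ A, ∃ k ∉ A,
    ∀ r ∈ invS T.sys.P (T.sys.wJ k), T.sys.wJ j • r ∈ keepS T.sys.P (T.sys.wJ k) := by
  have hd : ∀ {i j k}, i ∈ T.τ.orb (T.rep j) → i ∈ T.τ.orb (T.rep k) → j = k := fun hj hk =>
    T.rep_inj _ _ (by rw [← T.τ.orb_eq_of_mem hj, T.τ.orb_eq_of_mem hk]; exact T.τ.self_mem_orb _)
  obtain ⟨a, ⟨j, hj, ha⟩, b, hb, hab⟩ := conn_nodes {i | ∃ j ∈ A, i ∈ T.τ.orb (T.rep j)}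
    (h1.elim fun j hj => ⟨_, j, hj, T.τ.self_mem_orb _⟩)
    (h2.elim fun k hk => ⟨T.rep k, fun ⟨j, hj, h⟩ => hk (T.rep_inj _ _ h ▸ hj)⟩)
  obtain ⟨k, hk⟩ := T.rep_surj b
  have hkA : k ∉ A := fun h => hb ⟨k, h, hk⟩
  have hJK : ∀ i ∈ T.τ.orb (T.rep k), i ∉ T.τ.orb (T.rep j) := fun i h h' => hkA (hd h' h ▸ hj)
  have hpos : ∀ r ∈ invS T.sys.P (T.sys.wJ k), T.sys.wJ j • r ∈ T.sys.P := by
    intro r hr
    rw [tw_invS] at hr
    refine (Φ D).pos_smul_of_not_inSub ((Φ D).w0_mem _) hr.1 fun hc => (Φ D).ne_zero r (funext fun i => ?_)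
    by_cases hi : i ∈ T.τ.orb (T.rep k)
    exacts [hc i (hJK i hi), hr.2 i hi]
  refine ⟨j, hj, k, hkA, fun r hr => ⟨hpos r hr, ?_⟩⟩
  rcases T.sys.dich (T.sys.wJ k * T.sys.wJ j) (mul_mem (TwSys.wJ_mem k) (TwSys.wJ_mem j) : _ ∈ T.sys.W1) k with h | h
  · have hb' : (Φ D).simple b ∈ invS T.sys.P (T.sys.wJ k) := by
      rw [tw_invS]; exact ⟨(Φ D).pos_simple b, (Φ D).inSub_simple_iff.2 hk⟩
    have h3 : T.sys.wJ j • (Φ D).simple b ∈ invS T.sys.P (T.sys.wJ k) := ⟨hpos _ hb', by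
      rw [← mul_smul]; exact h _ hb'⟩
    rw [tw_invS] at h3 hb'
    refine absurd ((Φ D).root_inj (funext fun i => ?_)) (w0_smul_ne ha (hJK b hk) hab)
    by_cases hi : i ∈ T.τ.orb (T.rep j)
    · exact (h3.2 i fun h => hJK i h hi).trans (hb'.2 i fun h => hJK i h hi).symm
    · exact (Φ D).root_smul_of_mem_parab ((Φ D).w0_mem _) _ hi
  · rw [← mul_smul]; exact h r hr

omit [CoefOK D] in
include C in
theorem chi_eq_one_of_inSub {c : Fin D.rank → Kˣ} {J : Set (Fin D.rank)} (h : ∀ i ∈ J, chi D c (D.simple i) = 1)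
    {r : Fin D.nroots} (hr : (Φ D).InSub J r) : chi D c r = 1 := by
  obtain ⟨w, hw, j, hj, rfl⟩ := (Φ D).exists_parab_smul_simple hr
  refine parab_induction_left (cs D) (p := fun w => chi D c (w • (Φ D).simple j : Fin D.nroots) = 1)
    (by rw [one_smul]; exact h j hj) ?_ hw
  intro i hi w _ ih
  rw [mul_smul, val_s_smul, chi_linear c (r := (w • (Φ D).simple j : Fin D.nroots)) (s := D.simple i) (a := 1)
    (b := -D.cartan i (w • (Φ D).simple j : Fin D.nroots)) fun k hk => by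
      rw [cartan_reflect C i.2 hk (w • (Φ D).simple j).2]; ring, ih, h i hi]
  simp

variable (D) in
/-- Every fundamental coroot pairs with a root of full support to `±1` or `±2`. -/
def FullOK : Prop := ∀ i < D.rank, ∃ r < D.nroots, (∀ k < D.rank, 0 < cor D r k) ∧
  ((D.cartan i r).natAbs = 1 ∨ (D.cartan i r).natAbs = 2)

omit [CoefOK D] in
theorem tor_eq_one_of_pos [CharP K 2] (hF : FullOK D) {f : Fin D.nroots → ℝ} (hf : IsLin f)
    (hdom : ∀ r, (Φ D).Pos r → 0 ≤ f r) (h0 : ∃ i, f (simpleF D i) ≠ 0) {c : Fin D.rank → Kˣ}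
    (h : ∀ r, 0 < f r → chi D c r = 1) : tor C c = 1 := by
  rw [tor_eq_one_iff]
  intro i hi
  by_cases hi0 : f (simpleF D ⟨i, hi⟩) = 0
  swap
  · exact h (simpleF D ⟨i, hi⟩) (lt_of_le_of_ne (hdom _ ((Φ D).pos_simple _)) (Ne.symm hi0))
  obtain ⟨r, hr, h1, h2⟩ := hF i hi
  have h3 : 0 < f ⟨r, hr⟩ := by
    obtain ⟨k, hk⟩ := h0
    have : ∀ k : Fin D.rank, (0 : ℝ) < rc D r k := fun k => by exact_mod_cast (crt_pos_iff hr k).1 (h1 k k.2)
    rw [hf.eq_sum]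
    exact Finset.sum_pos' (fun j _ => mul_nonneg (this j).le (hdom _ ((Φ D).pos_simple j)))
      ⟨k, Finset.mem_univ _, mul_pos (this k) (lt_of_le_of_ne (hdom _ ((Φ D).pos_simple k)) hk.symm)⟩
  have h4 := h (s D ⟨i, hi⟩ • ⟨r, hr⟩) (by rw [hf.s_smul, hi0]; simpa using h3)
  rw [val_s_smul, chi_linear c (r := r) (s := D.simple i) (a := 1) (b := -D.cartan i r) fun k hk => by
    rw [cartan_reflect C hi hk hr]; ring, h ⟨r, hr⟩ h3, _root_.one_zpow, one_mul, _root_.zpow_neg, inv_eq_one,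
    ← pow_natAbs_eq_one] at h4
  rcases h2 with h2 | h2 <;> rw [h2] at h4
  · simpa using h4
  · refine Units.ext (CharTwo.sq_injective ?_)
    simpa using congrArg Units.val h4

theorem odd_card_H [Finite K] [CharP K 2] : Odd (Nat.card (tor C (K := K)).range) := by
  classical
  have := Fintype.ofFinite K
  refine Odd.of_dvd_nat ?_ (Subgroup.card_range_dvd _)
  obtain ⟨n, -, hn⟩ := FiniteField.card K 2
  rw [Nat.card_pi, Finset.prod_const, Nat.card_units, Nat.card_eq_fintype_card, hn]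
  exact (Nat.Even.sub_odd Nat.one_le_two_pow (Nat.even_pow.2 ⟨even_two, n.ne_zero⟩) odd_one).pow

/-- The theorem of Borel and Tits for involutions. -/
theorem invCharTwo_tw [Finite K] [CharP K 2] (hE : ∃ E, GoodE T.τ E) (hF : FullOK D)
    (hC : ∀ j (c : Fin D.rank → Kˣ), (∀ u ∈ T.sys.Uw (T.sys.wJ j), T.σ u = u → tor C c * u = u * tor C c) →
      ∀ i ∈ T.τ.orb (T.rep j), chi D c (D.simple i) = 1) : InvCharTwo T.sys.G1 := by
  obtain ⟨E, hE⟩ := hE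
  have hU2 : IsPGroup 2 T.sys.U := isPGroup_U C
  refine invCharTwo_of_ambient _ fun x hx hx2 => ?_
  let S : Set (Fin D.nroots → ℝ) :=
    (E : Set _) ∩ ⋃ g ∈ T.sys.G1, {f | Dg 1 (dg f) (dg f) (mat (g * x * g⁻¹) - 1)}
  have hS : ∀ f, f ∈ S ↔ f ∈ E ∧ ∃ g ∈ T.sys.G1, Dg 1 (dg f) (dg f) (mat (g * x * g⁻¹) - 1) := fun f => by
    simp [S]
  have hne : S.Nonempty := by
    obtain ⟨f0, hf0, hpos⟩ := hE.pos
    obtain ⟨ε, hε, h⟩ := exists_eps f0
    obtain ⟨g, hg⟩ := exists_conj_mem_of_not_dvd_index (odd_index_U hU2 odd_card_H) (x := ⟨x, hx⟩)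
      (by rw [← hx2, ← Subgroup.orderOf_coe])
    have hf := E.smul_mem ε⁻¹ hf0
    refine ⟨ε⁻¹ • f0, (hS _).2 ⟨hf, g, g.2, XSg_le_Vf C (hE.lin _ hf) one_pos (fun r hr => ?_) hg.1⟩⟩
    rw [Pi.smul_apply, smul_eq_mul, le_inv_mul_iff₀ hε, mul_one]
    exact h r (hpos r hr)
  obtain ⟨f', hf', hmin'⟩ := exists_min_sq S (E.closed_of_finiteDimensional.inter
    ((Set.toFinite _).isClosed_biUnion fun g _ => isClosed_Dg 1 _)) hne
  obtain ⟨hf'E, g', hg', hd'⟩ := (hS _).1 hf'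
  obtain ⟨w0, hw0, hdom⟩ := hE.exists_dominant hf'E
  obtain ⟨n0, hn0, hr0⟩ := TwSys.exists_rep_G1 (T := T.sys) w0 hw0
  have hsum : ∀ (w : W D) (f : Fin D.nroots → ℝ), ∑ r, f (w • r) ^ 2 = ∑ r, f r ^ 2 := fun w f =>
    Equiv.sum_comp (MulAction.toPerm w) fun r => f r ^ 2
  have hfE := hE.inv f' hf'E w0 hw0
  have hd0 : Dg 1 _ _ (mat (n0⁻¹ * (g' * x * g'⁻¹) * n0⁻¹⁻¹) - 1) :=
    Dg.conj (dg_rep_inv C hr0 f') (by rw [inv_inv]; exact dg_rep C hr0 f') hd'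
  rw [← hsum w0] at hmin'
  obtain ⟨f, hfE, hdom, hd0, hmin⟩ : ∃ f ∈ E, (∀ r, (Φ D).Pos r → 0 ≤ f r) ∧
      Dg 1 (dg f) (dg f) (mat (n0⁻¹ * g' * x * (n0⁻¹ * g')⁻¹) - 1) ∧ ∀ g ∈ S, ∑ r, f r ^ 2 ≤ ∑ r, g r ^ 2 :=
    ⟨_, hfE, hdom, by convert hd0 using 3; group, hmin'⟩
  have hg := mul_mem (inv_mem hn0) hg'
  generalize n0⁻¹ * g' = g at hd0 hg
  have hf := hE.lin f hfE
  obtain ⟨ε, hε, hεf⟩ := exists_eps f
  have hUP : T.sys.U ≤ Pf mat (dg f) := XSg_le_Pf C hf hdom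
  have hnorm : ∀ p ∈ T.sys.G1, p ∈ Pf mat (dg f) →
      p ∈ Subgroup.normalizer ((Vf mat (dg f) hε ⊓ T.sys.G1 : Subgroup ↥(D.group K)) : Set ↥(D.group K)) :=
    fun p hp hp' => Subgroup.mem_normalizer_fintype fun v hv =>
      ⟨conj_mem_Vf mat hp' hv.1, T.sys.G1.mul_mem (T.sys.G1.mul_mem hp hv.2) (T.sys.G1.inv_mem hp)⟩
  refine ⟨g, hg, Vf mat (dg f) hε ⊓ T.sys.G1, (isPGroup_Vf mat mat_injective _ hε).to_inf_left, inf_le_right,
    fun c hc hcx => hnorm c hc ?_, fun y hy hyV q hq hq2 hyq => ?_⟩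
  · obtain ⟨u, hu, hu1, n, w, hn, -, hw, v, hv, -, rfl⟩ := TwSys.bruhat_G1 hc
    have hvP := hUP (TwSys.Uw_le_U _ hv)
    have e : u⁻¹ * (g * x * g⁻¹) * u⁻¹⁻¹ = n * (v * (g * x * g⁻¹) * v⁻¹) * n⁻¹ := by
      calc u⁻¹ * (g * x * g⁻¹) * u⁻¹⁻¹ = u⁻¹ * (g * x * g⁻¹ * (u * n * v)) * (n * v)⁻¹ := by group
        _ = _ := by rw [← hcx]; group
    have h1 : Dg 1 (dg f) (dg f) (mat (u⁻¹ * (g * x * g⁻¹) * u⁻¹⁻¹) - 1) :=
      conj_mem_Vf mat (ha := one_pos) (inv_mem (hUP hu)) hd0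
    have h2 : Dg 1 (dg fun r => f (w⁻¹ • r)) (dg fun r => f (w⁻¹ • r))
        (mat (u⁻¹ * (g * x * g⁻¹) * u⁻¹⁻¹) - 1) := by
      rw [e]
      exact Dg.conj (by simpa using dg_rep_inv C (Rep.inv hn) f) (dg_rep C (Rep.inv hn) f)
        (conj_mem_Vf mat (ha := one_pos) hvP hd0)
    have h3 := eq_of_mid (hsum w⁻¹ f) (hmin _ ((hS _).2
      ⟨E.smul_mem _ (E.add_mem hfE (hE.inv f hfE _ (inv_mem (show w ∈ T.τ.fixed from hw)))), u⁻¹ * g,
        mul_mem (inv_mem hu1) hg, by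
        rw [dg_mid]
        convert h1.mid h2 using 3
        group⟩))
    have h4 := inv_mem (rep_mem_Pf C (Rep.inv hn) h3)
    rw [inv_inv] at h4
    exact mul_mem (mul_mem (hUP hu) h4) hvP
  have h0 : ∃ i, f (simpleF D i) ≠ 0 := by
    by_contra hc
    push Not at hc
    have h1 : dg f = 0 := by
      funext i
      rcases i with i | r
      · rfl
      · simp [dg, hf.eq_sum r, hc]
    have h2 := hd0.eq_zero (by simp [h1])
    rw [sub_eq_zero, ← map_one mat, mat_injective.eq_iff, mul_inv_eq_one, mul_eq_left] at h2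
    simp [h2] at hx2
  have hz : ∀ {i j : Fin D.rank}, j ∈ T.τ.orb i → f (simpleF D i) = 0 → f (simpleF D j) = 0 := fun hj h =>
    le_antisymm (not_lt.1 fun hc => ((hE.pos_iff hfE hj).1 hc).ne' h) (hdom _ ((Φ D).pos_simple _))
  have hBP : T.sys.B ≤ Pf mat (dg f) := sup_le hUP (by rintro _ ⟨c, rfl⟩; exact dg_tor C _ c)
  have hyB : y ∈ T.sys.B := by
    refine cent_mem_B (J := {j | f (simpleF D (T.rep j)) = 0}) ?_ (tw_conn T) (fun b hb hb1 => hnorm b hb1 (hBP hb))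
      (fun j hj n hn1 hn => hnorm n hn1 (rep_mem_Pf C hn (funext fun r =>
        hf.parab (fun i hi => hz hi hj) ((Φ D).w0_mem _) r))) (fun k hk u hu hσ => ⟨?_, TwSys.mem_G1_of_pos hu hσ⟩)
      hy hyV
    · obtain ⟨i, hi⟩ := h0
      obtain ⟨j, hj⟩ := T.rep_surj i
      exact ⟨j, fun h => hi (hz hj h)⟩
    · refine XSg_le_Vf C hf hε (fun r hr => hεf r ?_) hu
      rw [tw_invS] at hr
      exact hf.pos (fun i hi => (hE.pos_iff hfE hi).2
        (lt_of_le_of_ne (hdom _ ((Φ D).pos_simple _)) (Ne.symm hk))) hr.1 hr.2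
  obtain ⟨u, hu, hu1, _, ⟨c, rfl⟩, hc1, rfl⟩ := TwSys.B_inf_G1 hyB hy
  obtain ⟨v, hv, e⟩ := exists_conj_eq_of_odd (U := T.sys.U ⊓ T.sys.G1) (H := T.sys.H ⊓ T.sys.G1) hU2.to_inf_left
    (fun h hh u hu => ⟨TwSys.H_conj_XS hh.1 hu.1,
      T.sys.G1.mul_mem (T.sys.G1.mul_mem hh.2 hu.2) (T.sys.G1.inv_mem hh.2)⟩)
    (fun g h1 h2 => TwSys.eq_one_of_mem_U_H h1.1 h2.1) ⟨hu, hu1⟩ ⟨⟨c, rfl⟩, hc1⟩ hq hq2 hyq
  have hcV : ∀ z ∈ Vf mat (dg f) hε ⊓ T.sys.G1, z * tor C c = tor C c * z := by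
    intro z hz
    have h1 := hyV _ ((Subgroup.mem_normalizer_iff.1 (hnorm v hv.2 (hUP hv.1)) z).1 hz)
    rw [← e]
    calc z * (v⁻¹ * (u * tor C c) * v) = v⁻¹ * (v * z * v⁻¹ * (u * tor C c)) * v := by group
      _ = _ := by rw [h1]; group
  have h1 : tor C c = 1 := by
    have key : ∀ r, (Φ D).Pos r → 0 < f r → chi D c r = 1 := by
      intro r hr hfr
      obtain ⟨w, hw, j, t, ht, rfl⟩ := exists_smul_inv (T := T.sys) hr
      obtain ⟨n, hn1, hn⟩ := TwSys.exists_rep_G1 (T := T.sys) w hw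
      obtain ⟨c', hc'⟩ := Rep.conj_tor (Rep.inv hn) ⟨c, rfl⟩
      have h2 : n * tor C c' * n⁻¹ = tor C c := by rw [hc']; group
      rw [tw_invS] at ht
      rw [Rep.chi_conj hn h2]
      refine chi_eq_one_of_inSub (C := C) (hC j c' fun z hz hσ => ?_) ht.2
      have h3 := hcV (n * z * n⁻¹) ⟨XSg_le_Vf C hf hε (S := {r | 0 < f r}) hεf (Rep.conj hn (fun r hr => by
        rw [tw_invS] at hr
        exact hE.pos_of_pos (hE.inv f hfE w hw) ht hr hfr) hz),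
        T.sys.G1.mul_mem (T.sys.G1.mul_mem hn1 (TwSys.mem_G1_of_pos hz hσ)) (T.sys.G1.inv_mem hn1)⟩
      rw [← h2] at h3
      calc tor C c' * z = n⁻¹ * (n * tor C c' * n⁻¹ * (n * z * n⁻¹)) * n := by group
        _ = _ := by rw [← h3]; group
    refine tor_eq_one_of_pos hF hf hdom h0 fun r hr => key r (by_contra fun hc => ?_) hr
    have := hdom _ (((Φ D).pos_neg_iff r).2 hc)
    rw [Φ_neg, hf.neg] at this
    linarith
  rw [h1] at e ⊢
  simpa [mul_assoc] using congrArg (fun z => v * z * v⁻¹) e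

end CL.Even
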