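import Cfsg.Agent.Base
import Cfsg.Prelude.Def_Spor_B
import Cfsg.Prelude.Def_Spor_M
import Cfsg.Prelude.Def_Spor_Fi22
import Cfsg.Prelude.Def_Spor_Fi23
import Cfsg.Prelude.Def_Spor_Fi24
import Cfsg.Prelude.Def_Spor_J4
import Cfsg.Prelude.Def_Spor_Th
import Cfsg.Prelude.Def_Spor_Suz

/-! # The presented sporadic groups are commutative if they have no element of order 4

(So each of them, if it is a non-abelian group at all, has an element of order 4.) -/

set_option autoImplicit false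

namespace CL.Even

open Cfsg Cfsg.Spor
open scoped commutatorElement

/-- No element of order 4. -/
def N4 (X : Type*) [Group X] : Prop := ∀ x : X, x ^ 4 = 1 → x ^ 2 = 1

theorem N4.of_equiv {X Y : Type*} [Group X] [Group Y] (h : N4 X) (e : X ≃* Y) : N4 Y := by
  intro y hy
  have := h (e.symm y) (by rw [← map_pow, hy, map_one])
  rw [← map_pow] at this
  exact e.symm.map_eq_one_iff.mp this

section words

variable {G : Type*} [Group G]

theorem eq_of_two_three {a b : G} (hb : (b * b) ^ 1 = 1) (h2 : (a * b) ^ 2 = 1)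
    (h3 : (a * b) ^ 3 = 1) : a = b := by
  have h : a * b = 1 := by
    have : (a * b) ^ 3 = (a * b) ^ 2 * (a * b) := pow_succ _ _
    rw [h3, h2, one_mul] at this
    exact this.symm
  rw [pow_one] at hb
  exact mul_right_cancel (h.trans hb.symm)

theorem sq_a3 {a b c : G} (ha : (a * a) ^ 1 = 1) (hb : (b * b) ^ 1 = 1) (hc : (c * c) ^ 1 = 1)
    (hab : (a * b) ^ 3 = 1) (hbc : (b * c) ^ 3 = 1) (hac : (a * c) ^ 2 = 1) :
    (a * b * c) ^ 2 = b * (a * c) * b⁻¹ := by
  rw [pow_one] at ha hb hc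
  have ia : a⁻¹ = a := inv_eq_of_mul_eq_one_right ha
  have ib : b⁻¹ = b := inv_eq_of_mul_eq_one_right hb
  have ic : c⁻¹ = c := inv_eq_of_mul_eq_one_right hc
  have h1 : a * b * a = b * a * b := by
    have : a * b * a = (b * a * b)⁻¹ := by
      apply eq_inv_of_mul_eq_one_left
      rw [← hab]; simp only [pow_succ, pow_zero, one_mul, mul_assoc]
    rw [this]; simp only [mul_inv_rev, ia, ib, mul_assoc]
  have h2 : c * b * c = b * c * b := by
    have : b * c * b = (c * b * c)⁻¹ := by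
      apply eq_inv_of_mul_eq_one_left
      rw [← hbc]; simp only [pow_succ, pow_zero, one_mul, mul_assoc]
    rw [this]; simp only [mul_inv_rev, ic, ib, mul_assoc]
  have h3 : c * a = a * c := by
    have : a * c = (a * c)⁻¹ := by
      apply eq_inv_of_mul_eq_one_left
      rw [← hac, sq]
    rw [this]; simp only [mul_inv_rev, ic, ia]
  calc (a * b * c) ^ 2 = a * b * (c * a) * b * c := by simp only [sq, mul_assoc]
    _ = (a * b * a) * (c * b * c) := by rw [h3]; simp only [mul_assoc]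
    _ = b * a * (b * b) * c * b := by rw [h1, h2]; simp only [mul_assoc]
    _ = b * (a * c) * b⁻¹ := by rw [hb, ib]; simp only [mul_assoc, one_mul]

/-- Twisted version: `d` is an involution commuting with `a, b, c`. -/
theorem a3_collapse {a b c d : G} (ha : (a * a) ^ 1 = 1) (hb : (b * b) ^ 1 = 1)
    (hc : (c * c) ^ 1 = 1) (hab : (a * b) ^ 3 = 1) (hbc : (b * c) ^ 3 = 1) (hac : (a * c) ^ 2 = 1)
    (hd : d * d = 1) (hcomm : Commute (a * b * c) d)
    (h : (a * b * c * d) ^ 4 = 1 → (a * b * c * d) ^ 2 = 1) : a = c := by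
  have h2 : (a * b * c * d) ^ 2 = b * (a * c) * b⁻¹ := by
    rw [hcomm.mul_pow, sq d, hd, mul_one, sq_a3 ha hb hc hab hbc hac]
  have h4 : (a * b * c * d) ^ 4 = 1 := by
    rw [show 4 = 2 * 2 from rfl, pow_mul, h2, conj_pow, hac]; simp
  have := h h4
  rw [h2, conj_eq_one_iff] at this
  rw [pow_one] at hc
  exact mul_right_cancel (this.trans hc.symm)

theorem commute_of_sq {a b : G} (ha : (a * a) ^ 1 = 1) (hb : (b * b) ^ 1 = 1)
    (h : (a * b) ^ 2 = 1) : Commute a b := by
  rw [pow_one] at ha hb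
  have ia : a⁻¹ = a := inv_eq_of_mul_eq_one_right ha
  have ib : b⁻¹ = b := inv_eq_of_mul_eq_one_right hb
  have : a * b = (a * b)⁻¹ := by
    apply eq_inv_of_mul_eq_one_left
    rw [← h, sq]
  show a * b = b * a
  rw [this]; simp only [mul_inv_rev, ia, ib]

theorem mul_mem_commutator_of_isConj {a b : G} (hb : (b * b) ^ 1 = 1) (h : IsConj a b) :
    a * b ∈ commutator G := by
  obtain ⟨c, rfl⟩ := isConj_iff.mp h.symm
  rw [pow_one] at hb
  have ib : b⁻¹ = b := inv_eq_of_mul_eq_one_right hb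
  have : c * b * c⁻¹ * b = ⁅c, b⁆ := by rw [commutatorElement_def, ib]
  rw [this]
  exact Subgroup.commutator_mem_commutator (Subgroup.mem_top _) (Subgroup.mem_top _)

theorem isConj_of_cube {a b : G} (ha : (a * a) ^ 1 = 1) (hb : (b * b) ^ 1 = 1)
    (h : (a * b) ^ 3 = 1) : IsConj a b := by
  rw [pow_one] at ha hb
  have ia : a⁻¹ = a := inv_eq_of_mul_eq_one_right ha
  have ib : b⁻¹ = b := inv_eq_of_mul_eq_one_right hb
  refine isConj_iff.mpr ⟨a * b, ?_⟩
  have : a * b * a * (a * b)⁻¹ = b⁻¹ := by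
    apply eq_inv_of_mul_eq_one_left
    rw [← h]; simp only [mul_inv_rev, ia, ib, pow_succ, pow_zero, one_mul, mul_assoc]
  rw [this, ib]

end words

section pres

variable {α : Type*} [DecidableEq α] {edges : List (α × ℕ × α)} {extra : List (FreeGroup α)}

theorem cox (extra : List (FreeGroup α)) (x y : α) (n : ℕ)
    (h : (x ∈ coxNodes edges ∧ y ∈ coxNodes edges) ∧ coxLabel edges x y = n) :
    ((PresentedGroup.of x : CoxPresented α edges extra) * PresentedGroup.of y) ^ n = 1 := by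
  have := PresentedGroup.one_of_mem (rels := coxRelators edges ∪ {r | r ∈ extra})
    (Or.inl ⟨x, h.1.1, y, h.1.2, rfl⟩)
  rw [map_pow, map_mul, h.2] at this
  exact this

theorem ext_rel (edges : List (α × ℕ × α)) (extra : List (FreeGroup α)) :
    ∃ φ : FreeGroup α →* CoxPresented α edges extra,
      (∀ x, φ (FreeGroup.of x) = PresentedGroup.of x) ∧ ∀ r ∈ extra, φ r = 1 :=
  ⟨PresentedGroup.mk _, fun _ => rfl, fun _ hr => PresentedGroup.one_of_mem (Or.inr hr)⟩

omit [DecidableEq α] in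
theorem forall_extra {G : Type*} [Group G] {φ : FreeGroup α →* G} {l : List (FreeGroup α)}
    (l' : List (FreeGroup α)) (h : ∀ r ∈ l, φ r = 1) (e : l = l') : ∀ r ∈ l', φ r = 1 := e ▸ h

omit [DecidableEq α] in
theorem comm_of_all_eq {rels : Set (FreeGroup α)} (s : PresentedGroup rels)
    (h : ∀ x : α, (PresentedGroup.of x : PresentedGroup rels) = s) (g k : PresentedGroup rels) :
    g * k = k * g := by
  have hz : ∀ g : PresentedGroup rels, g ∈ Subgroup.zpowers s := fun g =>
    PresentedGroup.generated_by rels _ (fun j => by rw [h j]; exact Subgroup.mem_zpowers s) g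
  obtain ⟨m, rfl⟩ := hz g
  obtain ⟨n, rfl⟩ := hz k
  exact (Commute.zpow_zpow_self s m n).eq

end pres

theorem commutator_eq_bot_of_comm {G : Type*} [Group G] (h : ∀ g k : G, g * k = k * g) :
    commutator G = ⊥ := by
  rw [commutator_def, Subgroup.commutator_eq_bot_iff_le_centralizer]
  intro g _ k _
  exact h k g

local notation "o" => PresentedGroup.of

theorem Fi22_comm (h : N4 Fi22) (g k : Fi22) : g * k = k * g := by
  have r := fun x y n H => cox (edges := Fi22.edges) Fi22.extra x y n H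
  have step : ∀ x y z : Fi22.Gen, (o x : Fi22) = o y → (o z * o z : Fi22) ^ 1 = 1 →
      (o x * o z : Fi22) ^ 2 = 1 → (o y * o z : Fi22) ^ 3 = 1 → (o z : Fi22) = o y :=
    fun x y z h1 h2 h3 h4 => (eq_of_two_three h2 (h1 ▸ h3) h4).symm
  have h0 : (o .a : Fi22) = o .c :=
    a3_collapse (d := 1) (r .a .a 1 (by decide)) (r .b .b 1 (by decide)) (r .c .c 1 (by decide))
      (r .a .b 3 (by decide)) (r .b .c 3 (by decide)) (r .a .c 2 (by decide)) (one_mul 1)
      (Commute.one_right _) (h _)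
  have hd := step .a .c .d h0 (r _ _ _ (by decide)) (r _ _ _ (by decide)) (r _ _ _ (by decide))
  have hb := step .d .c .b hd (r _ _ _ (by decide)) (r _ _ _ (by decide)) (r _ _ _ (by decide))
  have he := step .c .d .e hd.symm (r _ _ _ (by decide)) (r _ _ _ (by decide)) (r _ _ _ (by decide))
  have hf := step .d .e .f he.symm (r _ _ _ (by decide)) (r _ _ _ (by decide)) (r _ _ _ (by decide))
  have hg := step .e .f .g hf.symm (r _ _ _ (by decide)) (r _ _ _ (by decide)) (r _ _ _ (by decide))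
  have hh := step .c .d .h hd.symm (r _ _ _ (by decide)) (r _ _ _ (by decide)) (r _ _ _ (by decide))
  have hi := step .d .h .i hh.symm (r _ _ _ (by decide)) (r _ _ _ (by decide)) (r _ _ _ (by decide))
  refine comm_of_all_eq (o .c : Fi22) (fun x => ?_) g k
  cases x <;> simp only [h0, hd, hb, he, hf, hg, hh, hi]

theorem Fi23_comm (h : N4 Fi23) (g k : Fi23) : g * k = k * g := by
  have r := fun x y n H => cox (edges := Fi23.edges) Fi23.extra x y n H
  have step : ∀ x y z : Fi23.Gen, (o x : Fi23) = o y → (o z * o z : Fi23) ^ 1 = 1 →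
      (o x * o z : Fi23) ^ 2 = 1 → (o y * o z : Fi23) ^ 3 = 1 → (o z : Fi23) = o y :=
    fun x y z h1 h2 h3 h4 => (eq_of_two_three h2 (h1 ▸ h3) h4).symm
  have h0 : (o .a : Fi23) = o .c :=
    a3_collapse (d := 1) (r .a .a 1 (by decide)) (r .b .b 1 (by decide)) (r .c .c 1 (by decide))
      (r .a .b 3 (by decide)) (r .b .c 3 (by decide)) (r .a .c 2 (by decide)) (one_mul 1)
      (Commute.one_right _) (h _)
  have hd := step .a .c .d h0 (r _ _ _ (by decide)) (r _ _ _ (by decide))
    (r _ _ _ (by decide))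
  have hb := step .d .c .b hd (r _ _ _ (by decide)) (r _ _ _ (by decide))
    (r _ _ _ (by decide))
  have he := step .c .d .e hd.symm (r _ _ _ (by decide)) (r _ _ _ (by decide))
    (r _ _ _ (by decide))
  have hf := step .d .e .f he.symm (r _ _ _ (by decide)) (r _ _ _ (by decide))
    (r _ _ _ (by decide))
  have hg := step .e .f .g hf.symm (r _ _ _ (by decide)) (r _ _ _ (by decide))
    (r _ _ _ (by decide))
  have hj := step .f .g .j hg.symm (r _ _ _ (by decide)) (r _ _ _ (by decide))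
    (r _ _ _ (by decide))
  have hh := step .c .d .h hd.symm (r _ _ _ (by decide)) (r _ _ _ (by decide))
    (r _ _ _ (by decide))
  have hi := step .d .h .i hh.symm (r _ _ _ (by decide)) (r _ _ _ (by decide))
    (r _ _ _ (by decide))
  refine comm_of_all_eq (o .c : Fi23) (fun x => ?_) g k
  cases x <;> simp only [h0, hd, hb, he, hf, hg, hj, hh, hi]

theorem B_comm (h : N4 BabyMonster) (g k : BabyMonster) : g * k = k * g := by
  have r := fun x y n H => cox (edges := BabyMonster.edges) BabyMonster.extra x y n H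
  have step : ∀ x y z : BabyMonster.Gen, (o x : BabyMonster) = o y → (o z * o z : BabyMonster) ^ 1 = 1 →
      (o x * o z : BabyMonster) ^ 2 = 1 → (o y * o z : BabyMonster) ^ 3 = 1 → (o z : BabyMonster) = o y :=
    fun x y z h1 h2 h3 h4 => (eq_of_two_three h2 (h1 ▸ h3) h4).symm
  have h0 : (o .t1 : BabyMonster) = o .t3 :=
    a3_collapse (d := 1) (r .t1 .t1 1 (by decide)) (r .t2 .t2 1 (by decide)) (r .t3 .t3 1 (by decide))
      (r .t1 .t2 3 (by decide)) (r .t2 .t3 3 (by decide)) (r .t1 .t3 2 (by decide)) (one_mul 1)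
      (Commute.one_right _) (h _)
  have h4 := step .t1 .t3 .t4 h0 (r _ _ _ (by decide)) (r _ _ _ (by decide))
    (r _ _ _ (by decide))
  have h2 := step .t4 .t3 .t2 h4 (r _ _ _ (by decide)) (r _ _ _ (by decide))
    (r _ _ _ (by decide))
  have h5 := step .t3 .t4 .t5 h4.symm (r _ _ _ (by decide)) (r _ _ _ (by decide))
    (r _ _ _ (by decide))
  have h6 := step .t4 .t5 .t6 h5.symm (r _ _ _ (by decide)) (r _ _ _ (by decide))
    (r _ _ _ (by decide))
  have h7 := step .t5 .t6 .t7 h6.symm (r _ _ _ (by decide)) (r _ _ _ (by decide))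
    (r _ _ _ (by decide))
  have h8 := step .t6 .t7 .t8 h7.symm (r _ _ _ (by decide)) (r _ _ _ (by decide))
    (r _ _ _ (by decide))
  have h9 := step .t4 .t5 .t9 h5.symm (r _ _ _ (by decide)) (r _ _ _ (by decide))
    (r _ _ _ (by decide))
  have h10 := step .t5 .t9 .t10 h9.symm (r _ _ _ (by decide)) (r _ _ _ (by decide))
    (r _ _ _ (by decide))
  have h11 := step .t9 .t10 .t11 h10.symm (r _ _ _ (by decide)) (r _ _ _ (by decide))
    (r _ _ _ (by decide))
  refine comm_of_all_eq (o .t3 : BabyMonster) (fun x => ?_) g k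
  cases x <;> simp only [h0, h4, h2, h5, h6, h7, h8, h9, h10, h11]

theorem Fi24_comm (h : N4 Fi24') (g k : Fi24) : g * k = k * g := by
  have r := fun x y n H => cox (edges := Fi24.edges) Fi24.extra x y n H
  have step : ∀ x y z : Fi24.Gen, (o x : Fi24) = o y → (o z * o z : Fi24) ^ 1 = 1 →
      (o x * o z : Fi24) ^ 2 = 1 → (o y * o z : Fi24) ^ 3 = 1 → (o z : Fi24) = o y :=
    fun x y z h1 h2 h3 h4 => (eq_of_two_three h2 (h1 ▸ h3) h4).symm
  have cm : ∀ x y : _, coxLabel _ x y = 2 → x ∈ coxNodes _ → y ∈ coxNodes _ →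
      Commute (o x : Fi24) (o y) := fun x y h1 h2 h3 =>
    commute_of_sq (r x x 1 ⟨⟨h2, h2⟩, by simp [coxLabel]⟩) (r y y 1 ⟨⟨h3, h3⟩, by simp [coxLabel]⟩)
      (r x y 2 ⟨⟨h2, h3⟩, h1⟩)
  have cj : ∀ x y : _, coxLabel _ x y = 3 → x ∈ coxNodes _ → y ∈ coxNodes _ →
      IsConj (o x : Fi24) (o y) := fun x y h1 h2 h3 =>
    isConj_of_cube (r x x 1 ⟨⟨h2, h2⟩, by simp [coxLabel]⟩) (r y y 1 ⟨⟨h3, h3⟩, by simp [coxLabel]⟩)
      (r x y 3 ⟨⟨h2, h3⟩, h1⟩)
  have hmem : (o .a * o .b * o .c * o .e : Fi24) ∈ commutator Fi24 := by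
    rw [mul_assoc (_ * _)]
    exact Subgroup.mul_mem _
      (mul_mem_commutator_of_isConj (r _ _ _ (by decide)) (cj _ _ (by decide) (by decide) (by decide)))
      (mul_mem_commutator_of_isConj (r _ _ _ (by decide))
        ((cj .c .d (by decide) (by decide) (by decide)).trans
          (cj .d .e (by decide) (by decide) (by decide))))
  have h0 : (o .a : Fi24) = o .c :=
    a3_collapse (d := o .e) (r .a .a 1 (by decide)) (r .b .b 1 (by decide))
      (r .c .c 1 (by decide)) (r .a .b 3 (by decide)) (r .b .c 3 (by decide))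
      (r .a .c 2 (by decide)) (by simpa using r .e .e 1 (by decide))
      (((cm .a .e (by decide) (by decide) (by decide)).mul_left
        (cm .b .e (by decide) (by decide) (by decide))).mul_left
        (cm .c .e (by decide) (by decide) (by decide)))
      (fun h4 => congrArg Subtype.val (h ⟨_, hmem⟩ (Subtype.ext h4)))
  have hd := step .a .c .d h0 (r _ _ _ (by decide)) (r _ _ _ (by decide))
    (r _ _ _ (by decide))
  have hb := step .d .c .b hd (r _ _ _ (by decide)) (r _ _ _ (by decide))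
    (r _ _ _ (by decide))
  have he := step .c .d .e hd.symm (r _ _ _ (by decide)) (r _ _ _ (by decide))
    (r _ _ _ (by decide))
  have hf := step .d .e .f he.symm (r _ _ _ (by decide)) (r _ _ _ (by decide))
    (r _ _ _ (by decide))
  have hg := step .e .f .g hf.symm (r _ _ _ (by decide)) (r _ _ _ (by decide))
    (r _ _ _ (by decide))
  have hj := step .f .g .j hg.symm (r _ _ _ (by decide)) (r _ _ _ (by decide))
    (r _ _ _ (by decide))
  have hh := step .c .d .h hd.symm (r _ _ _ (by decide)) (r _ _ _ (by decide))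
    (r _ _ _ (by decide))
  have hi := step .d .h .i hh.symm (r _ _ _ (by decide)) (r _ _ _ (by decide))
    (r _ _ _ (by decide))
  have hk := step .c .a .k h0.symm (r _ _ _ (by decide)) (r _ _ _ (by decide))
    (r _ _ _ (by decide))
  have hl := step .a .k .l hk.symm (r _ _ _ (by decide)) (r _ _ _ (by decide))
    (r _ _ _ (by decide))
  refine comm_of_all_eq (o .c : Fi24) (fun x => ?_) g k
  cases x <;> simp only [h0, hd, hb, he, hf, hg, hj, hh, hi, hk, hl]

theorem Fi24'_comm (h : N4 Fi24') (g k : Fi24') : g * k = k * g :=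
  Subtype.ext (Fi24_comm h g k)

theorem Bimonster_comm (h : N4 Monster) (g k : Bimonster) : g * k = k * g := by
  have r := fun x y n H => cox (edges := Bimonster.edges) Bimonster.extra x y n H
  have step : ∀ x y z : Bimonster.Gen, (o x : Bimonster) = o y → (o z * o z : Bimonster) ^ 1 = 1 →
      (o x * o z : Bimonster) ^ 2 = 1 → (o y * o z : Bimonster) ^ 3 = 1 → (o z : Bimonster) = o y :=
    fun x y z h1 h2 h3 h4 => (eq_of_two_three h2 (h1 ▸ h3) h4).symm
  have cm : ∀ x y : _, coxLabel _ x y = 2 → x ∈ coxNodes _ → y ∈ coxNodes _ →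
      Commute (o x : Bimonster) (o y) := fun x y h1 h2 h3 =>
    commute_of_sq (r x x 1 ⟨⟨h2, h2⟩, by simp [coxLabel]⟩) (r y y 1 ⟨⟨h3, h3⟩, by simp [coxLabel]⟩)
      (r x y 2 ⟨⟨h2, h3⟩, h1⟩)
  have cj : ∀ x y : _, coxLabel _ x y = 3 → x ∈ coxNodes _ → y ∈ coxNodes _ →
      IsConj (o x : Bimonster) (o y) := fun x y h1 h2 h3 =>
    isConj_of_cube (r x x 1 ⟨⟨h2, h2⟩, by simp [coxLabel]⟩) (r y y 1 ⟨⟨h3, h3⟩, by simp [coxLabel]⟩)
      (r x y 3 ⟨⟨h2, h3⟩, h1⟩)
  have hmem : (o .c1 * o .d1 * o .e1 * o .c2 : Bimonster) ∈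
      Subgroup.centralizer {(o .a : Bimonster)} ⊓ commutator Bimonster := by
    refine Subgroup.mem_inf.mpr ⟨?_, ?_⟩
    · rw [Subgroup.mem_centralizer_singleton_iff]
      exact ((((cm .c1 .a (by decide) (by decide) (by decide)).mul_left
        (cm .d1 .a (by decide) (by decide) (by decide))).mul_left
        (cm .e1 .a (by decide) (by decide) (by decide))).mul_left
        (cm .c2 .a (by decide) (by decide) (by decide))).eq
    · rw [mul_assoc (_ * _)]
      exact Subgroup.mul_mem _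
        (mul_mem_commutator_of_isConj (r _ _ _ (by decide)) (cj _ _ (by decide) (by decide) (by decide)))
        (mul_mem_commutator_of_isConj (r _ _ _ (by decide))
          ((cj .e1 .d1 (by decide) (by decide) (by decide)).trans
          ((cj .d1 .c1 (by decide) (by decide) (by decide)).trans
          ((cj .c1 .b1 (by decide) (by decide) (by decide)).trans
          ((cj .b1 .a (by decide) (by decide) (by decide)).trans
          ((cj .a .b2 (by decide) (by decide) (by decide)).trans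
          (cj .b2 .c2 (by decide) (by decide) (by decide))))))))
  have h0 : (o .c1 : Bimonster) = o .e1 :=
    a3_collapse (d := o .c2) (r .c1 .c1 1 (by decide)) (r .d1 .d1 1 (by decide))
      (r .e1 .e1 1 (by decide)) (r .c1 .d1 3 (by decide)) (r .d1 .e1 3 (by decide))
      (r .c1 .e1 2 (by decide)) (by simpa using r .c2 .c2 1 (by decide))
      (((cm .c1 .c2 (by decide) (by decide) (by decide)).mul_left
        (cm .d1 .c2 (by decide) (by decide) (by decide))).mul_left
        (cm .e1 .c2 (by decide) (by decide) (by decide)))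
      (fun h4 => congrArg Subtype.val (h ⟨_, hmem⟩ (Subtype.ext h4)))
  have hb1 := step .e1 .c1 .b1 h0.symm (r _ _ _ (by decide)) (r _ _ _ (by decide))
    (r _ _ _ (by decide))
  have hd1 := step .b1 .c1 .d1 hb1 (r _ _ _ (by decide)) (r _ _ _ (by decide))
    (r _ _ _ (by decide))
  have hf1 := step .c1 .e1 .f1 h0 (r _ _ _ (by decide)) (r _ _ _ (by decide))
    (r _ _ _ (by decide))
  have ha := step .c1 .b1 .a hb1.symm (r _ _ _ (by decide)) (r _ _ _ (by decide))
    (r _ _ _ (by decide))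
  have hb2 := step .b1 .a .b2 ha.symm (r _ _ _ (by decide)) (r _ _ _ (by decide))
    (r _ _ _ (by decide))
  have hc2 := step .a .b2 .c2 hb2.symm (r _ _ _ (by decide)) (r _ _ _ (by decide))
    (r _ _ _ (by decide))
  have hd2 := step .b2 .c2 .d2 hc2.symm (r _ _ _ (by decide)) (r _ _ _ (by decide))
    (r _ _ _ (by decide))
  have he2 := step .c2 .d2 .e2 hd2.symm (r _ _ _ (by decide)) (r _ _ _ (by decide))
    (r _ _ _ (by decide))
  have hf2 := step .d2 .e2 .f2 he2.symm (r _ _ _ (by decide)) (r _ _ _ (by decide))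
    (r _ _ _ (by decide))
  have hb3 := step .b1 .a .b3 ha.symm (r _ _ _ (by decide)) (r _ _ _ (by decide))
    (r _ _ _ (by decide))
  have hc3 := step .a .b3 .c3 hb3.symm (r _ _ _ (by decide)) (r _ _ _ (by decide))
    (r _ _ _ (by decide))
  have hd3 := step .b3 .c3 .d3 hc3.symm (r _ _ _ (by decide)) (r _ _ _ (by decide))
    (r _ _ _ (by decide))
  have he3 := step .c3 .d3 .e3 hd3.symm (r _ _ _ (by decide)) (r _ _ _ (by decide))
    (r _ _ _ (by decide))
  have hf3 := step .d3 .e3 .f3 he3.symm (r _ _ _ (by decide)) (r _ _ _ (by decide))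
    (r _ _ _ (by decide))
  refine comm_of_all_eq (o .e1 : Bimonster) (fun x => ?_) g k
  cases x <;> simp only [h0, hb1, hd1, hf1, ha, hb2, hc2, hd2, he2, hf2, hb3, hc3, hd3, he3, hf3]

theorem Monster_comm (h : N4 Monster) (g k : Monster) : g * k = k * g :=
  Subtype.ext (Bimonster_comm h g k)

theorem eq_one_of_sq_of_odd {G : Type*} [Group G] {x : G} (h : (x * x) ^ 1 = 1) (k : ℕ)
    (hk : x ^ (2 * k + 1) = 1) : x = 1 := by
  rw [pow_one, ← sq] at h
  rw [pow_succ, pow_mul, h, one_pow, one_mul] at hk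
  exact hk

theorem Suz_comm (h : N4 Suz) (g k : Suz) : g * k = k * g := by
  have r := fun x y n H => cox (edges := Suz.edges) Suz.extra x y n H
  obtain ⟨φ, hφ, hr⟩ := ext_rel Suz.edges Suz.extra
  have hr := forall_extra _ hr (Suz.extra.eq_1)
  simp only [List.forall_mem_cons, map_mul, map_pow, map_inv, hφ] at hr
  obtain ⟨-, e1, -, -, e4, -⟩ := hr
  have ha : (o .a : Suz) = 1 := by
    rw [h _ (r .f .g 4 (by decide))] at e1; simpa using e1
  have hb : (o .b : Suz) = 1 :=
    eq_one_of_sq_of_odd (r _ _ _ (by decide)) 2 (by simpa [ha] using r .a .b 5 (by decide))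
  have hc : (o .c : Suz) = 1 :=
    eq_one_of_sq_of_odd (r _ _ _ (by decide)) 1 (by simpa [hb] using r .b .c 3 (by decide))
  have hf : (o .f : Suz) = 1 :=
    eq_one_of_sq_of_odd (r _ _ _ (by decide)) 1 (by simpa [hb] using r .b .f 3 (by decide))
  have hg : (o .g : Suz) = 1 :=
    eq_one_of_sq_of_odd (r _ _ _ (by decide)) 1 (by simpa [hb] using r .b .g 3 (by decide))
  have hdd : (o .d * o .d : Suz) = 1 := by simpa using r .d .d 1 (by decide)
  have he : (o .e : Suz) = 1 :=
    eq_one_of_sq_of_odd (r _ _ _ (by decide)) 1 (by simpa [hb, hc, hdd] using e4)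
  have hd : (o .d : Suz) = 1 :=
    eq_one_of_sq_of_odd (r _ _ _ (by decide)) 1 (by simpa [he] using r .d .e 3 (by decide))
  refine comm_of_all_eq (1 : Suz) (fun x => ?_) g k
  cases x <;> assumption

theorem eq_one_of_sq_of_odd' {G : Type*} [Group G] {x : G} (h : x ^ 2 = 1) (k : ℕ)
    (hk : x ^ (2 * k + 1) = 1) : x = 1 :=
  eq_one_of_sq_of_odd (by rw [pow_one, ← sq, h]) k hk

theorem Th_comm (h : N4 Th) (g k : Th) : g * k = k * g := by
  obtain ⟨φ, hφ, hr⟩ := ext_rel Th.edges Th.extra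
  have hr := forall_extra _ hr (Th.extra.eq_1)
  simp only [List.forall_mem_cons, map_mul, map_pow, map_inv, hφ] at hr
  obtain ⟨e0, e1, e2, e3, -, e5, -, e7, -, -, e10, -, e12, -, e14, -, -, -, e18, -, e20, -, -, -, -, -, -, e27, -, -, -, -, e32, -, e34, -, e36, -⟩ := hr
  have ha : (o .a : Th) = 1 := by
    have h1 : (o .a : Th) = (o .c * o .d) ^ 4 := mul_inv_eq_one.mp e10
    have h2 := h ((o .c * o .d) ^ 2) (by
      rw [← pow_mul, show 2 * 4 = 4 * 2 from rfl, pow_mul, ← h1, e0])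
    rw [← pow_mul] at h2
    exact h1.trans h2
  have hb : (o .b : Th) = 1 := eq_one_of_sq_of_odd' e1 1 (by simpa [ha] using e5)
  have hc : (o .c : Th) = 1 := eq_one_of_sq_of_odd' e2 1 (by simpa [hb] using e7)
  have he : (o .e : Th) = 1 := by simpa [ha, hb, hc] using e32
  have hd : (o .d : Th) = 1 := eq_one_of_sq_of_odd' e3 1 (by simpa [he] using e12)
  have hs : (o .s : Th) = 1 := eq_one_of_sq_of_odd' (by simpa [hd] using e18) 3 e14
  have hu : (o .u : Th) = 1 :=
    eq_one_of_sq_of_odd' (by simpa [ha, hc] using e27) 1 (by simpa [ha, hc, hs] using e36)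
  have ht : (o .t : Th) = 1 := eq_one_of_sq_of_odd' (by simpa [hu, sq] using e34) 1 e20
  refine comm_of_all_eq (1 : Th) (fun x => ?_) g k
  cases x <;> assumption

theorem m24_collapse {G : Type*} [Group G] {x y : G} (hx : x ^ 2 = 1) (hy : y ^ 3 = 1)
    (h23 : (x * y) ^ 23 = 1) (h6 : ((x⁻¹ * y⁻¹ * x * y) ^ 3) ^ 2 = 1)
    (h2 : (x * y * (x * y * x * y⁻¹) ^ 3) ^ 2 = 1) : x = 1 ∧ y = 1 := by
  have hxx : x * x = 1 := by rw [← sq, hx]
  have ix : x⁻¹ = x := inv_eq_of_mul_eq_one_right hxx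
  set a := x * y with ha
  set b := x * y⁻¹ with hb
  set c := (a * b) ^ 3 with hc
  have hab : x * y * x * y⁻¹ = a * b := by simp only [ha, hb, mul_assoc]
  have hba : x⁻¹ * y⁻¹ * x * y = a⁻¹ * (a * b) * a⁻¹⁻¹ := by
    rw [ix]; simp only [ha, hb]; group
  rw [hba, conj_pow, conj_pow, conj_eq_one_iff, ← hc] at h6
  rw [hab, ← hc] at h2
  have hcc : c * c = 1 := by rw [← sq, h6]
  have ic : c⁻¹ = c := inv_eq_of_mul_eq_one_right hcc
  have h3 : c * a * c⁻¹ = a⁻¹ := by
    apply eq_inv_of_mul_eq_one_right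
    rw [ic, ← h2, sq]; simp only [mul_assoc]
  have xa : x * a * x⁻¹ = b⁻¹ := by
    simp only [ha, hb, mul_inv_rev, inv_inv, ← mul_assoc, hxx, one_mul]
  have xb : x * b * x⁻¹ = a⁻¹ := by
    simp only [ha, hb, mul_inv_rev, ← mul_assoc, hxx, one_mul]
  have xc : x * c * x⁻¹ = c := by
    rw [hc, ← conj_pow, show x * (a * b) * x⁻¹ = (x * a * x⁻¹) * (x * b * x⁻¹) by group, xa, xb,
      ← mul_inv_rev, inv_pow, ← hc, ic]
  have h4 : c * b * c⁻¹ = b⁻¹ := by
    have : c * b⁻¹ * c⁻¹ = b := by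
      rw [← xa, ← xc]
      calc x * c * x⁻¹ * (x * a * x⁻¹) * (x * c * x⁻¹)⁻¹ = x * (c * a * c⁻¹) * x⁻¹ := by group
        _ = (x * a * x⁻¹)⁻¹ := by rw [h3]; group
        _ = b := by rw [xa, inv_inv]
    calc c * b * c⁻¹ = (c * b⁻¹ * c⁻¹)⁻¹ := by group
      _ = b⁻¹ := by rw [this]
  have h5 : a⁻¹ * b⁻¹ = a * b := by
    rw [← h3, ← h4]
    calc c * a * c⁻¹ * (c * b * c⁻¹) = c * (a * b) * c⁻¹ := by group
      _ = a * b := by rw [hc, ← ((Commute.refl (a * b)).pow_right 3).eq]; group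
  have h7 : a ^ 2 = b⁻¹ ^ 2 := by
    calc a ^ 2 = a * (a * b) * b⁻¹ := by rw [sq]; group
      _ = b⁻¹ ^ 2 := by rw [← h5, sq]; group
  have h8 : b⁻¹ ^ 23 = 1 := by rw [← xa, conj_pow, h23]; simp
  have h9 : a = b⁻¹ := by
    calc a = a ^ 23 * a := by rw [h23, one_mul]
      _ = (a ^ 2) ^ 12 := by rw [← pow_succ, ← pow_mul]
      _ = b⁻¹ ^ 23 * b⁻¹ := by rw [h7, ← pow_succ, ← pow_mul]
      _ = b⁻¹ := by rw [h8, one_mul]
  have h10 : Commute x y := by
    show x * y = y * x
    rw [← ha, h9, hb, mul_inv_rev, inv_inv, ix]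
  rw [ha, h10.mul_pow] at h23
  have h11 : x ^ 23 = x := by
    rw [show 23 = 2 * 11 + 1 from rfl, pow_succ, pow_mul, hx, one_pow, one_mul]
  have h12 : y ^ 23 = y⁻¹ := by
    apply eq_inv_of_mul_eq_one_left
    rw [← pow_succ, show 23 + 1 = 3 * 8 from rfl, pow_mul, hy, one_pow]
  rw [h11, h12, mul_inv_eq_one] at h23
  have hx1 : x = 1 := eq_one_of_sq_of_odd' hx 1 (by rw [h23]; exact hy)
  exact ⟨hx1, h23 ▸ hx1⟩

theorem J4_comm (h : N4 J4) (g k : J4) : g * k = k * g := by
  obtain ⟨φ, hφ, hr⟩ := ext_rel J4.edges J4.extra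
  have hr := forall_extra _ hr (J4.extra.eq_1)
  simp only [List.forall_mem_cons, map_mul, map_pow, map_inv, hφ] at hr
  obtain ⟨e0, e1, e2, e3, -, e5, -, e7, -, -, e10, -⟩ := hr
  obtain ⟨hx, hy⟩ := m24_collapse e0 e1 e2 (h _ (by rw [← pow_mul]; exact e3)) (h _ e5)
  have ht : (o .t : J4) = 1 := eq_one_of_sq_of_odd' e7 1 (by simpa [hx, hy] using e10)
  refine comm_of_all_eq (1 : J4) (fun w => ?_) g k
  cases w <;> assumption

end CL.Even
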