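import Cfsg.Agent.Base
import Cfsg.Agent.Even.Flag
import Cfsg.Agent.Sz.Cent
import Cfsg.Agent.Sz.Sylow2
import Cfsg.Agent.Sz.Bridge

/-! The Suzuki groups: involution centralizers and the 2-rank. -/

set_option autoImplicit false

namespace CL.Even

open Cfsg

theorem noCoreNoComp_of_isPGroup {X : Type*} [Group X] [Finite X] (h : IsPGroup 2 X) :
    NoCoreNoComp X := by
  refine noCoreNoComp_of_normal ⊤ (h.to_subgroup ⊤) fun y _ hy => ?_
  obtain ⟨k, hk⟩ := h y
  rw [← orderOf_eq_one_iff]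
  exact Nat.Coprime.eq_one_of_dvd (Nat.Coprime.pow_right k (Nat.coprime_two_right.mpr hy))
    (orderOf_dvd_of_pow_eq_one hk)

variable {F : Type*} [Field F] [Fintype F] {m : ℕ}

theorem invCharTwo_sz (c : CL.Sz.Ctx F m) : InvCharTwo (Sz F m) := by
  intro x hx
  have hx1 : x ≠ 1 := by rintro rfl; simp at hx
  have hx2 : x ^ 2 = 1 := hx ▸ pow_orderOf_eq_one x
  apply noCoreNoComp_of_isPGroup
  rcases c.trichotomy x with h | ⟨g, a, b, rfl⟩ | ⟨g, l, hl, rfl⟩
  · obtain ⟨p, hp⟩ := c.exists_fix_of_sq_eq_one hx2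
    exact absurd hp (h p)
  · have h1 : c.U a b ≠ 1 := by
      intro h; rw [h] at hx1; simp at hx1
    exact (c.isPGroup_Ug.to_le (c.centralizer_U_le h1)).of_equiv
      (CL.Sz.centralizerConjEquiv g _)
  · exfalso
    apply hl
    have h1 : c.H l * c.H l = c.H 1 := by
      rw [conj_pow, mul_inv_eq_one, mul_eq_left, pow_two] at hx2
      rw [hx2, c.H_one]
    rw [c.H_mul_H] at h1
    have h2 : (l : F) * l = 1 := by
      simpa using congrArg Units.val (c.H_inj.mp h1)
    have h3 : ((l : F) - 1) ^ 2 = 0 := by linear_combination h2 - (l - 1 : F) * c.two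
    exact Units.ext (sub_eq_zero.mp (pow_eq_zero_iff two_ne_zero |>.mp h3))

theorem pRank_sz (c : CL.Sz.Ctx F m) : PRankAtLeast 2 3 (Sz F m) := by
  have := c.charP
  refine pRank_of_family (fun b : F => c.U 0 b) ?_ ?_ CharTwo.add_self_eq_zero ?_
  · intro a b
    simp [c.U_mul_U]
  · intro a ha
    exact (c.U_eq_one.mp ha).2
  · rw [Nat.card_eq_fintype_card]; exact c.eight_le

theorem suzuki_case {G : Type*} [Group G] [Finite G] (h : Lie.IsoSuzuki G) :
    InvCharTwo G ∧ PRankAtLeast 2 3 G := by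
  obtain ⟨F, _, _, m, hm, hF, ⟨e⟩⟩ := h
  have c : CL.Sz.Ctx F m := ⟨hm, hF⟩
  exact ⟨(invCharTwo_sz c).of_mulEquiv (e.trans c.equivLie.symm),
    pRankAtLeast_of_mulEquiv (e.trans c.equivLie.symm).symm (pRank_sz c)⟩

end CL.Even
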