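import Cfsg.Agent.Base
import Cfsg.Agent.Even.StrongP
import Cfsg.Agent.Invol.StrEmb
import Cfsg.Agent.S0446
import Cfsg.Prelude.Def_EvenType

/-! # A strongly embedded subgroup lies in a strongly `Z`-embedded maximal subgroup -/

set_option autoImplicit false

namespace CL.Even

open Cfsg CL.Invol

variable {G : Type*} [Group G] [Finite G]

theorem isStronglyPEmbedded_of_strEmb {M : Subgroup G} (h : IsStronglyEmbedded M) :
    IsStronglyPEmbedded 2 M := by
  rw [isStronglyPEmbedded_iff Nat.prime_two]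
  exact ⟨h.1, even_iff_two_dvd.mp h.2.1, fun Q hQ h2 hne =>
    strEmb_normalizer_le_of_isPGroup h hQ h2 hne⟩

theorem controlsFusion_of_strEmb {M T : Subgroup G} (h : IsStronglyEmbedded M) (hT : T ≤ M)
    (h2 : IsPGroup 2 T) : ControlsFusion M T := by
  intro A g hA hAg
  by_cases hg : g ∈ M
  · exact ⟨g, hg, rfl⟩
  refine ⟨1, M.one_mem, ?_⟩
  have key : ∀ a ∈ A, a = 1 := by
    intro a ha
    by_contra hne
    apply hg
    have haT : a ∈ T := hA ha
    have hgT : g * a * g⁻¹ ∈ T := hAg ⟨a, ha, rfl⟩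
    obtain ⟨k, hk⟩ := (IsPGroup.iff_orderOf (p := 2)).mp h2 ⟨a, haT⟩
    rw [← Subgroup.orderOf_coe] at hk
    have hk' : orderOf a = 2 ^ k := hk
    have hk0 : k ≠ 0 := by
      rintro rfl
      exact hne (orderOf_eq_one_iff.mp (by simpa using hk'))
    obtain ⟨j, rfl⟩ := Nat.exists_eq_succ_of_ne_zero hk0
    have ho : orderOf (a ^ 2 ^ j) = 2 := by
      rw [orderOf_pow_of_dvd (by positivity) (by rw [hk']; exact pow_dvd_pow 2 (Nat.le_succ j)),
        hk', pow_succ, Nat.mul_div_cancel_left _ (by positivity)]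
    refine strEmb_mem_of_conj_mem h (M.pow_mem (hT haT) _) ho ?_
    rw [← conj_pow]
    exact M.pow_mem (hT hgT) _
  ext x
  constructor
  · rintro ⟨a, ha, rfl⟩
    refine ⟨a, ha, ?_⟩
    simp [key a ha]
  · rintro ⟨a, ha, rfl⟩
    refine ⟨a, ha, ?_⟩
    simp [key a ha]

/-- A strongly embedded subgroup is strongly `Z`-embedded for the class `Z` of involutions. -/
theorem isStronglyZEmbedded_of_strEmb {M : Subgroup G} (h : IsStronglyEmbedded M) {z : G}
    (hz : orderOf z = 2) : IsStronglyZEmbedded (conjugatesOf z) M := by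
  have hZ : ∀ x : G, x ∈ conjugatesOf z ↔ orderOf x = 2 := fun x =>
    ⟨fun hx => by
      obtain ⟨c, rfl⟩ := isConj_iff.mp hx
      rw [← hz]; exact (MulAut.conj c).orderOf_eq z, fun hx => strEmb_isConj h hz hx⟩
  have hP := isStronglyPEmbedded_of_strEmb h
  refine ⟨h.1, ?_, fun x hx hxM => strEmb_centralizer_le h hxM ((hZ x).mp hx), ?_, ?_⟩
  · obtain ⟨t, htM, ht⟩ := strEmb_exists_involution h
    exact ⟨t, (hZ t).mpr ht, htM⟩
  · have : Fact (Nat.Prime 2) := ⟨Nat.prime_two⟩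
    obtain ⟨T⟩ : Nonempty (Sylow 2 M) := inferInstance
    exact ⟨T, controlsFusion_of_strEmb h (Subgroup.map_subtype_le _) (T.isPGroup'.map _)⟩
  · rintro H - ⟨t, htZ, htH, htM⟩ hHM
    set H₁ := Subgroup.closure (conjugatesOf z ∩ (H : Set G)) with hH₁
    have ht' : orderOf t = 2 := (hZ t).mp htZ
    have htH₁ : t ∈ H₁ := Subgroup.subset_closure ⟨htZ, htH⟩
    have hN : H ≤ Subgroup.normalizer (H₁ : Set G) := by
      rw [hH₁, Subgroup.le_normalizer_closure_iff]
      rintro x hx g ⟨hg2, hg⟩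
      refine Subgroup.subset_closure ⟨?_, H.mul_mem (H.mul_mem hx hg) (H.inv_mem hx)⟩
      rw [hZ] at hg2 ⊢
      have := (MulAut.conj x).orderOf_eq g
      rw [← hg2, ← this]; rfl
    have h1 : ¬ H₁ ≤ M := by
      intro hle
      apply hHM
      refine hN.trans (normalizer_le_of_isStronglyPEmbedded Nat.prime_two hP hle ?_)
      rw [← ht']
      exact Subgroup.orderOf_dvd_natCard _ htH₁
    refine ⟨h1, isStronglyPEmbedded_subgroupOf Nat.prime_two hP h1 ?_⟩
    rw [← ht']
    exact Subgroup.orderOf_dvd_natCard _ ⟨htH₁, htM⟩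

theorem exists_coatom_stronglyZEmbedded {H : Subgroup G} (h : IsStronglyEmbedded H) :
    ∃ (M : Subgroup G) (z : G), IsCoatom M ∧ IsTwoCentralInvolution z ∧
      IsStronglyZEmbedded (conjugatesOf z) M := by
  obtain ⟨M, hM, hHM⟩ := (eq_top_or_exists_le_coatom H).resolve_left h.1
  have hM' := strEmb_of_le h hHM hM.1
  have he : Even (Nat.card G) :=
    even_iff_two_dvd.mpr ((even_iff_two_dvd.mp h.2.1).trans (Subgroup.card_subgroup_dvd_card H))
  obtain ⟨z, hz⟩ := Cfsg.Agent.S0446.result he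
  exact ⟨M, z, hM, hz, isStronglyZEmbedded_of_strEmb hM' hz.1⟩

end CL.Even
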